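import Mathlib.LinearAlgebra.Matrix.Determinant.Basic
import Mathlib.RingTheory.Ideal.Maps
import Mathlib.RingTheory.Finiteness.Basic
import Mathlib.Algebra.BigOperators.Fin
import Groth.Prelude.Def_Fitting

set_option autoImplicit false

open Matrix

namespace Groth.Agent.Fit14

universe u v

variable {R : Type u} [CommRing R] {M : Type v} [AddCommGroup M] [Module R M]

/-- Relations among a tuple. -/
def rels {n : ℕ} (x : Fin n → M) : Submodule R (Fin n → R) :=
  LinearMap.ker (Fintype.linearCombination R x)

lemma mem_rels {n : ℕ} {x : Fin n → M} {a : Fin n → R} :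
    a ∈ rels x ↔ ∑ j, a j • x j = 0 := by
  simp [rels, Fintype.linearCombination_apply]

/-- Ideal of the `p × p` minors of vectors taken from `S`. -/
def minors {n : ℕ} (S : Set (Fin n → R)) (p : ℕ) : Ideal R :=
  Ideal.span {d | ∃ (z : Fin p → (Fin n → R)) (e : Fin p → Fin n),
    (∀ b, z b ∈ S) ∧ d = (Matrix.of fun a b => z b (e a)).det}

/-- Ideal of determinants of square matrices with at least `p` rows in `S`. -/
def dets {n : ℕ} (S : Set (Fin n → R)) (p : ℕ) : Ideal R :=
  Ideal.span {d | ∃ (a : Matrix (Fin n) (Fin n) R) (s : Finset (Fin n)),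
    p ≤ s.card ∧ (∀ i ∈ s, a i ∈ S) ∧ d = a.det}

lemma minors_zero {n : ℕ} (S : Set (Fin n → R)) : minors S 0 = ⊤ := by
  rw [Ideal.eq_top_iff_one]
  exact Ideal.subset_span ⟨Fin.elim0, Fin.elim0, fun b => b.elim0, by simp⟩

lemma minors_mono {n : ℕ} {S T : Set (Fin n → R)} (h : S ⊆ T) (p : ℕ) :
    minors S p ≤ minors T p :=
  Ideal.span_mono (fun _ ⟨z, e, hz, hd⟩ => ⟨z, e, fun b => h (hz b), hd⟩)

lemma det_mem_minors {n : ℕ} {S : Set (Fin n → R)} {p : ℕ} :
    ∀ {m : ℕ} (a : Matrix (Fin m) (Fin m) R) (g : Fin m → Fin n) (s : Finset (Fin m)),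
      p ≤ s.card → (∀ i ∈ s, ∃ z ∈ S, a i = z ∘ g) → a.det ∈ minors S p := by
  intro m
  induction m with
  | zero =>
    intro a g s hs _
    have : p = 0 := by simpa using hs.trans (Finset.card_le_univ s)
    subst this
    simp [minors_zero]
  | succ m ih =>
    intro a g s hs ha
    rcases lt_or_eq_of_le (hs.trans (by simpa using Finset.card_le_univ s) : p ≤ m + 1) with hp | hp
    · obtain ⟨i, hi⟩ : ∃ i, p ≤ (s.erase i).card := by
        by_cases h : ∃ i, i ∉ s
        · obtain ⟨i, hi⟩ := h
          exact ⟨i, by rwa [Finset.erase_eq_of_notMem hi]⟩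
        · push Not at h
          refine ⟨0, ?_⟩
          rw [Finset.card_erase_of_mem (h 0), Finset.eq_univ_of_forall h, Finset.card_univ,
            Fintype.card_fin]
          omega
      rw [det_succ_row a i]
      refine sum_mem fun j _ => Ideal.mul_mem_left _ _ (ih _ (g ∘ j.succAbove)
        (Finset.univ.filter fun b => i.succAbove b ∈ s.erase i) ?_ ?_)
      · refine hi.trans (le_of_eq ?_)
        rw [← Finset.card_image_of_injective _ (Fin.succAbove_right_injective (p := i))]
        congr 1
        ext b
        simp only [Finset.mem_image, Finset.mem_filter, Finset.mem_univ, true_and]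
        constructor
        · intro hb
          obtain ⟨c, hc⟩ := Fin.exists_succAbove_eq (Finset.ne_of_mem_erase hb)
          exact ⟨c, hc ▸ hb, hc⟩
        · rintro ⟨c, hc, rfl⟩
          exact hc
      · intro b hb
        simp only [Finset.mem_filter, Finset.mem_univ, true_and] at hb
        obtain ⟨z, hz, he⟩ := ha _ (Finset.mem_of_mem_erase hb)
        exact ⟨z, hz, funext fun c => by simp [he]⟩
    · subst hp
      have hall : ∀ i, i ∈ s := by
        intro i
        have : s = Finset.univ := Finset.eq_univ_of_card _ (by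
          have := Finset.card_le_univ s
          simp at this ⊢
          omega)
        simp [this]
      choose z hz he using fun i => ha i (hall i)
      refine Ideal.subset_span ⟨z, g, hz, ?_⟩
      rw [← det_transpose]
      congr 1
      ext i j
      simp [he]

lemma dets_le_minors {n : ℕ} (S : Set (Fin n → R)) (p : ℕ) : dets S p ≤ minors S p := by
  refine Ideal.span_le.2 ?_
  rintro d ⟨a, s, hs, ha, rfl⟩
  exact det_mem_minors a id s hs fun i hi => ⟨a i, ha i hi, rfl⟩

/-- The generating set used in the definition of Fitting ideals. -/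
def initDets {n : ℕ} (S : Set (Fin n → R)) (p : ℕ) : Ideal R :=
  Ideal.span {d | ∃ (a : Matrix (Fin n) (Fin n) R),
    (∀ i : Fin n, (i : ℕ) < p → a i ∈ S) ∧ d = a.det}

lemma initDets_le_dets {n : ℕ} (S : Set (Fin n → R)) {p : ℕ} (hp : p ≤ n) :
    initDets S p ≤ dets S p := by
  refine Ideal.span_le.2 ?_
  rintro d ⟨a, ha, rfl⟩
  refine Ideal.subset_span ⟨a, Finset.univ.filter fun i : Fin n => (i : ℕ) < p, ?_,
    fun i hi => ha i (Finset.mem_filter.1 hi).2, rfl⟩
  rw [← Finset.card_image_of_injective _ Fin.val_injective]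
  refine le_trans (le_of_eq (Finset.card_range p).symm) (Finset.card_le_card ?_)
  intro i hi
  simp only [Finset.mem_range] at hi
  simp only [Finset.mem_image, Finset.mem_filter, Finset.mem_univ, true_and]
  exact ⟨⟨i, lt_of_lt_of_le hi hp⟩, hi, rfl⟩

lemma det_submatrix_equiv_mem {ι κ : Type*} [Fintype ι] [DecidableEq ι] [Fintype κ]
    [DecidableEq κ] (a : Matrix κ κ R) (f g : ι ≃ κ) (I : Ideal R) :
    (a.submatrix f g).det ∈ I ↔ a.det ∈ I := by
  have h : a.submatrix f g = ((a.submatrix f f).submatrix id (g.trans f.symm : Equiv.Perm ι)) := by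
    ext i j; simp
  rw [h, det_permute', det_submatrix_equiv_self]
  rcases Int.units_eq_one_or (Equiv.Perm.sign (g.trans f.symm : Equiv.Perm ι)) with hs | hs
  · simp [hs]
  · simp [hs]

lemma minors_le_initDets {n : ℕ} (S : Set (Fin n → R)) {p : ℕ} (hp : p ≤ n) :
    minors S p ≤ initDets S p := by
  refine Ideal.span_le.2 ?_
  rintro d ⟨z, e, hz, rfl⟩
  obtain ⟨q, rfl⟩ := Nat.exists_eq_add_of_le hp
  by_cases he : Function.Injective e
  · classical
    let C : Finset (Fin (p + q)) := (Finset.univ.image e)ᶜ
    have hC : C.card = q := by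
      simp [C, Finset.card_compl, Finset.card_image_of_injective _ he]
    let f : Fin q ≃ C := (C.equivFinOfCardEq hC).symm
    let h : Fin p ⊕ Fin q → Fin (p + q) := Sum.elim e (fun j => (f j : Fin (p + q)))
    have hinj : Function.Injective h := by
      refine Function.Injective.sumElim he (Subtype.val_injective.comp f.injective) fun a b hab => ?_
      have := (f b).2
      simp only [C, Finset.mem_compl, Finset.mem_image, Finset.mem_univ, true_and] at this
      exact this ⟨a, hab⟩
    let g : Fin p ⊕ Fin q ≃ Fin (p + q) :=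
      Equiv.ofBijective h ((Fintype.bijective_iff_injective_and_card h).2 ⟨hinj, by simp⟩)
    let a : Matrix (Fin (p + q)) (Fin (p + q)) R :=
      Matrix.of (Fin.append z (fun j => Pi.single (g (Sum.inr j)) (1 : R)))
    have key : a.submatrix finSumFinEquiv g = fromBlocks ((Matrix.of fun x y => z y (e x))ᵀ)
        (Matrix.of fun i j => z i (g (Sum.inr j))) 0 1 := by
      ext i j
      rcases i with i | i <;> rcases j with j | j
      · simp [a, finSumFinEquiv, g, h]
      · simp [a, finSumFinEquiv]
      · simp only [a, submatrix_apply, of_apply, finSumFinEquiv_apply_right, Fin.append_right,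
          fromBlocks_apply₂₁, Matrix.zero_apply]
        rw [Pi.single_apply, if_neg]
        exact fun hh => Sum.inl_ne_inr (g.injective hh)
      · simp only [a, submatrix_apply, of_apply, finSumFinEquiv_apply_right, Fin.append_right,
          fromBlocks_apply₂₂]
        rw [Pi.single_apply, Matrix.one_apply]
        simp [g.injective.eq_iff, eq_comm]
    have : (a.submatrix finSumFinEquiv g).det ∈ initDets S p := by
      rw [det_submatrix_equiv_mem]
      refine Ideal.subset_span ⟨a, fun i hi => ?_, rfl⟩
      obtain ⟨i, rfl⟩ : ∃ j : Fin p, i = Fin.castAdd q j := ⟨⟨i, hi⟩, rfl⟩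
      have : a (Fin.castAdd q i) = z i := funext fun b => by simp [a]
      rw [this]; exact hz i
    rwa [key, det_fromBlocks_zero₂₁, det_one, mul_one, det_transpose] at this
  · obtain ⟨i, j, hij, hne⟩ := Function.not_injective_iff.1 he
    rw [SetLike.mem_coe, det_zero_of_row_eq hne (funext fun b => by simp [hij])]
    exact zero_mem _

lemma dets_eq_minors {n : ℕ} (S : Set (Fin n → R)) {p : ℕ} (hp : p ≤ n) : dets S p = minors S p :=
  (dets_le_minors S p).antisymm ((minors_le_initDets S hp).trans (initDets_le_dets S hp))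

lemma initDets_eq_minors {n : ℕ} (S : Set (Fin n → R)) {p : ℕ} (hp : p ≤ n) :
    initDets S p = minors S p :=
  ((initDets_le_dets S hp).trans (dets_le_minors S p)).antisymm (minors_le_initDets S hp)

/-- Fitting ideal attached to a tuple. -/
def fitOf {n : ℕ} (x : Fin n → M) (k : ℕ) : Ideal R := minors (rels (R := R) x : Set (Fin n → R)) (n - k)

lemma fitOf_eq_dets {n : ℕ} (x : Fin n → M) (k : ℕ) :
    fitOf (R := R) x k = dets (rels (R := R) x : Set (Fin n → R)) (n - k) :=
  (dets_eq_minors _ (Nat.sub_le n k)).symm

lemma det_mem_fitOf {n : ℕ} (x : Fin n → M) (k : ℕ) (a : Matrix (Fin n) (Fin n) R)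
    (s : Finset (Fin n)) (hs : n ≤ s.card + k) (ha : ∀ i ∈ s, a i ∈ rels (R := R) x) :
    a.det ∈ fitOf (R := R) x k := by
  rw [fitOf_eq_dets]
  exact Ideal.subset_span ⟨a, s, by omega, ha, rfl⟩

lemma fitOf_le {n : ℕ} (x : Fin n → M) (k : ℕ) {I : Ideal R}
    (h : ∀ (a : Matrix (Fin n) (Fin n) R) (s : Finset (Fin n)),
      n ≤ s.card + k → (∀ i ∈ s, a i ∈ rels (R := R) x) → a.det ∈ I) :
    fitOf (R := R) x k ≤ I := by
  rw [fitOf_eq_dets]
  refine Ideal.span_le.2 ?_
  rintro d ⟨a, s, hs, ha, rfl⟩
  exact h a s (by omega) ha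

lemma fitOf_le_comp {n m : ℕ} (e : Fin n ≃ Fin m) (x : Fin m → M) (k : ℕ) :
    fitOf (R := R) x k ≤ fitOf (R := R) (x ∘ e) k := by
  refine fitOf_le x k fun a s hs ha => ?_
  rw [← det_submatrix_equiv_self e a]
  refine det_mem_fitOf _ k _ (s.map e.symm.toEmbedding) ?_ ?_
  · simp only [Finset.card_map]
    have := Fin.equiv_iff_eq.1 ⟨e⟩
    omega
  · intro i hi
    obtain ⟨j, hj, rfl⟩ := Finset.mem_map.1 hi
    have := mem_rels.1 (ha j hj)
    rw [mem_rels, ← this]
    rw [← e.sum_comp (fun t => a j t • x t)]
    simp

lemma fitOf_comp {n m : ℕ} (e : Fin n ≃ Fin m) (x : Fin m → M) (k : ℕ) :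
    fitOf (R := R) (x ∘ e) k = fitOf (R := R) x k := by
  refine le_antisymm ?_ (fitOf_le_comp e x k)
  simpa [Function.comp_assoc] using fitOf_le_comp (R := R) e.symm (x ∘ e) k

lemma fitOf_snoc {n : ℕ} (x : Fin n → M) (y : M)
    (hy : y ∈ Submodule.span R (Set.range x)) (k : ℕ) :
    fitOf (R := R) (Fin.snoc x y) k = fitOf (R := R) x k := by
  obtain ⟨c, hc⟩ := (Submodule.mem_span_range_iff_exists_fun R).1 hy
  refine le_antisymm ?_ ?_
  · refine fitOf_le _ k fun a s hs ha => ?_
    let b : Matrix (Fin (n+1)) (Fin (n+1)) R :=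
      Matrix.of fun i => Fin.snoc (fun j => a i j.castSucc + c j * a i (Fin.last n)) (a i (Fin.last n))
    have hdet : b.det = a.det := by
      rw [← det_transpose b, ← det_transpose a]
      refine det_eq_of_forall_row_eq_smul_add_const (Fin.snoc c 0) (Fin.last n) (by simp) ?_
      intro j i
      refine Fin.lastCases ?_ (fun j => ?_) j <;> simp [b]
    rw [← hdet, det_succ_column b (Fin.last n)]
    refine sum_mem fun i _ => Ideal.mul_mem_left _ _ ?_
    refine det_mem_fitOf x k _ (Finset.univ.filter fun t => i.succAbove t ∈ s) ?_ ?_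
    · have h2 : (Finset.univ.filter fun t => i.succAbove t ∈ s).map i.succAboveEmb = s.erase i := by
        ext t
        simp only [Finset.mem_map, Finset.mem_filter, Finset.mem_univ, true_and, Finset.mem_erase]
        constructor
        · rintro ⟨u, hu, rfl⟩
          exact ⟨Fin.succAbove_ne _ _, hu⟩
        · rintro ⟨hne, ht⟩
          obtain ⟨u, rfl⟩ := Fin.exists_succAbove_eq hne
          exact ⟨u, ht, rfl⟩
      have := congrArg Finset.card h2
      rw [Finset.card_map] at this
      have h3 : s.card - 1 ≤ (s.erase i).card := Finset.pred_card_le_card_erase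
      omega
    · intro t ht
      simp only [Finset.mem_filter, Finset.mem_univ, true_and] at ht
      have := mem_rels.1 (ha _ ht)
      rw [Fin.sum_univ_castSucc] at this
      simp only [Fin.snoc_castSucc, Fin.snoc_last, ← hc, Finset.smul_sum] at this
      rw [mem_rels, ← this, ← Finset.sum_add_distrib]
      refine Finset.sum_congr rfl fun j _ => ?_
      simp [b, smul_smul, add_smul, mul_comm]
  · refine fitOf_le _ k fun a s hs ha => ?_
    let b : Matrix (Fin (n+1)) (Fin (n+1)) R :=
      Matrix.of (Fin.snoc (fun i => Fin.snoc (a i) 0) (Fin.snoc c (-1)))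
    have hb : b.det = - a.det := by
      rw [det_succ_column b (Fin.last n), Fin.sum_univ_castSucc]
      have : b.submatrix Fin.castSucc Fin.castSucc = a := by
        ext i j; simp [b]
      simp [b] at this ⊢
      simp [this]
    have : b.det ∈ fitOf (R := R) (Fin.snoc x y) k := by
      refine det_mem_fitOf _ k b (insert (Fin.last n) (s.map Fin.castSuccEmb)) ?_ ?_
      · rw [Finset.card_insert_of_notMem (by simp), Finset.card_map]
        omega
      · intro i hi
        rw [mem_rels, Fin.sum_univ_castSucc]
        simp only [Finset.mem_insert, Finset.mem_map] at hi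
        rcases hi with rfl | ⟨j, hj, rfl⟩
        · simp [b, hc]
        · have := mem_rels.1 (ha j hj)
          simp [b, this]
    rwa [hb, neg_mem_iff] at this

lemma fitOf_append {n : ℕ} (x : Fin n → M) (hx : Submodule.span R (Set.range x) = ⊤) :
    ∀ {m : ℕ} (y : Fin m → M) (k : ℕ), fitOf (R := R) (Fin.append x y) k = fitOf (R := R) x k := by
  intro m
  induction m with
  | zero =>
    intro y k
    rw [Subsingleton.elim y Fin.elim0, Fin.append_elim0, fitOf_comp (finCongr (add_zero n)) x k |>.symm]
    rfl
  | succ m ih =>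
    intro y k
    rw [← Fin.snoc_init_self y, Fin.append_snoc, fitOf_snoc _ _ ?_, ih]
    have : Set.range x ⊆ Set.range (Fin.append x (Fin.init y)) :=
      fun z ⟨i, hi⟩ => ⟨Fin.castAdd m i, by simp [hi]⟩
    exact Submodule.span_mono this (hx ▸ trivial)

lemma fitOf_indep {n m : ℕ} {x : Fin n → M} {y : Fin m → M}
    (hx : Submodule.span R (Set.range x) = ⊤) (hy : Submodule.span R (Set.range y) = ⊤) (k : ℕ) :
    fitOf (R := R) x k = fitOf (R := R) y k := by
  rw [← fitOf_append x hx y k, ← fitOf_append y hy x k, ← fitOf_comp finAddFlip (Fin.append y x) k]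
  congr 1
  funext i
  refine Fin.addCases (fun j => ?_) (fun j => ?_) i <;> simp

theorem ideal_eq_fitOf {n : ℕ} (x : Fin n → M) (hx : Submodule.span R (Set.range x) = ⊤) (k : ℕ) :
    Fitt.ideal R M k = fitOf (R := R) x k := by
  refine le_antisymm (Ideal.span_le.2 ?_) ?_
  · rintro d ⟨m, y, a, hy, ha, rfl⟩
    rw [SetLike.mem_coe, fitOf_indep hx hy, fitOf, ← initDets_eq_minors _ (Nat.sub_le m k)]
    exact Ideal.subset_span ⟨a, fun i hi => mem_rels.2 (ha i hi), rfl⟩
  · rw [fitOf, ← initDets_eq_minors _ (Nat.sub_le n k)]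
    refine Ideal.span_mono ?_
    rintro d ⟨a, ha, rfl⟩
    exact ⟨n, x, a, hx, fun i hi => mem_rels.1 (ha i hi), rfl⟩

/-- Multilinearity: minors only depend on the span. -/
theorem minors_span {n : ℕ} (S : Set (Fin n → R)) (p : ℕ) :
    minors (Submodule.span R S : Set (Fin n → R)) p = minors S p := by
  refine le_antisymm (Ideal.span_le.2 ?_) (minors_mono Submodule.subset_span p)
  rintro d ⟨z, e, hz, rfl⟩
  suffices H : ∀ (T : Finset (Fin p)) (z : Fin p → (Fin n → R)),
      (∀ b ∈ T, z b ∈ Submodule.span R S) → (∀ b ∉ T, z b ∈ S) →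
      (Matrix.of fun a b => z b (e a)).det ∈ minors S p from
    H Finset.univ z (fun b _ => hz b) (fun b hb => absurd (Finset.mem_univ b) hb)
  intro T
  induction T using Finset.induction_on with
  | empty => exact fun z _ h => Ideal.subset_span ⟨z, e, fun b => h b (Finset.notMem_empty b), rfl⟩
  | @insert b T hb ih =>
    intro z h1 h2
    have key : ∀ v ∈ Submodule.span R S,
        (Matrix.of fun a c => Function.update z b v c (e a)).det ∈ minors S p := by
      intro v hv
      induction hv using Submodule.span_induction with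
      | mem v hv =>
        refine ih _ (fun c hc => ?_) (fun c hc => ?_)
        · rw [Function.update_of_ne (by rintro rfl; exact hb hc)]
          exact h1 c (Finset.mem_insert_of_mem hc)
        · rcases eq_or_ne c b with rfl | hne
          · simpa using hv
          · rw [Function.update_of_ne hne]
            exact h2 c (by simp [hne, hc])
      | zero =>
        rw [det_eq_zero_of_column_eq_zero b (by simp)]
        exact zero_mem _
      | add v w _ _ hv hw =>
        have e1 : ∀ v : Fin n → R, (Matrix.of fun a c => Function.update z b v c (e a)) =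
            (Matrix.of fun a c => z c (e a)).updateCol b (fun a => v (e a)) := by
          intro v; ext a c; simp [Matrix.updateCol_apply, Function.update_apply]
          split <;> simp
        rw [e1] at hv hw ⊢
        have := det_updateCol_add (Matrix.of fun a c => z c (e a)) b
          (fun a => v (e a)) (fun a => w (e a))
        simp only [Pi.add_def] at this ⊢
        rw [this]
        exact add_mem hv hw
      | smul r v _ hv =>
        have e1 : ∀ v : Fin n → R, (Matrix.of fun a c => Function.update z b v c (e a)) =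
            (Matrix.of fun a c => z c (e a)).updateCol b (fun a => v (e a)) := by
          intro v; ext a c; simp [Matrix.updateCol_apply, Function.update_apply]
          split <;> simp
        rw [e1] at hv ⊢
        have := det_updateCol_smul (Matrix.of fun a c => z c (e a)) b r (fun a => v (e a))
        simp only [Pi.smul_def, smul_eq_mul] at this ⊢
        rw [this]
        exact Ideal.mul_mem_left _ _ hv
    have := key (z b) (h1 b (Finset.mem_insert_self b T))
    rwa [Function.update_eq_self] at this

end Groth.Agent.Fit14
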