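import Mathlib.LinearAlgebra.TensorProduct.Pi
import Mathlib.LinearAlgebra.TensorProduct.RightExactness
import Mathlib.LinearAlgebra.Matrix.Adjugate
import Mathlib.LinearAlgebra.Matrix.SchurComplement
import Mathlib.RingTheory.Ideal.Quotient.Operations
import Mathlib.RingTheory.Finiteness.Cardinality
import Mathlib.LinearAlgebra.Dimension.Finite
import Mathlib.LinearAlgebra.FreeModule.Finite.Basic
import Mathlib.Algebra.Module.FinitePresentation
import Groth.Agent.Fit14.Basic

set_option autoImplicit false

open Matrix TensorProduct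

namespace Groth.Agent.Fit14

universe u v w

variable {R : Type u} [CommRing R] {M : Type v} [AddCommGroup M] [Module R M]

lemma exists_gens (R : Type u) [CommRing R] (M : Type v) [AddCommGroup M] [Module R M]
    [Module.Finite R M] :
    ∃ (n : ℕ) (x : Fin n → M), Submodule.span R (Set.range x) = ⊤ :=
  Module.Finite.exists_fin

/-- If the relations are spanned by `S`, minors of `S` compute the Fitting ideal. -/
theorem ideal_eq_minors_of_span {n : ℕ} (x : Fin n → M) (hx : Submodule.span R (Set.range x) = ⊤)
    {S : Set (Fin n → R)} (hS : Submodule.span R S = rels x) (k : ℕ) :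
    Fitt.ideal R M k = minors S (n - k) := by
  rw [ideal_eq_fitOf x hx, fitOf, ← hS, minors_span]

theorem minors_image {R' : Type w} [CommRing R'] (f : R →+* R') {n : ℕ}
    (S : Set (Fin n → R)) (p : ℕ) :
    minors ((fun v => f ∘ v) '' S) p = (minors S p).map f := by
  rw [minors, minors, Ideal.map_span]
  congr 1
  ext d
  constructor
  · rintro ⟨z, e, hz, rfl⟩
    choose y hy hye using hz
    refine ⟨_, ⟨y, e, hy, rfl⟩, ?_⟩
    rw [RingHom.map_det]
    congr 1
    ext a b
    simp [← hye]
  · rintro ⟨_, ⟨y, e, hy, rfl⟩, rfl⟩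
    refine ⟨fun b => f ∘ y b, e, fun b => Set.mem_image_of_mem _ (hy b), ?_⟩
    rw [RingHom.map_det]
    rfl

section BaseChange

variable (R' : Type w) [CommRing R'] [Algebra R R']

lemma span_range_one_tmul {n : ℕ} (x : Fin n → M) (hx : Submodule.span R (Set.range x) = ⊤) :
    Submodule.span R' (Set.range fun i => (1 : R') ⊗ₜ[R] x i) = ⊤ := by
  have := Submodule.baseChange_span (R := R) (M := M) (A := R') (Set.range x)
  rw [hx, Submodule.baseChange_top, ← Set.range_comp] at this
  exact this.symm

lemma rels_baseChange {n : ℕ} (x : Fin n → M) (hx : Submodule.span R (Set.range x) = ⊤) :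
    Submodule.span R' ((fun v => algebraMap R R' ∘ v) '' (rels (R := R) x : Set (Fin n → R))) =
      rels (R := R') (fun i => (1 : R') ⊗ₜ[R] x i) := by
  let φ : (Fin n → R) →ₗ[R] M := Fintype.linearCombination R x
  have hφ : Function.Surjective φ := by
    rw [← LinearMap.range_eq_top, Fintype.range_linearCombination, hx]
  have hex := lTensor_exact R' (LinearMap.exact_subtype_ker_map φ) hφ
  refine le_antisymm (Submodule.span_le.2 ?_) ?_
  · rintro _ ⟨v, hv, rfl⟩
    rw [SetLike.mem_coe, mem_rels] at hv ⊢
    have := congrArg ((TensorProduct.mk R R' M) 1) hv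
    simp only [map_sum, map_smul, map_zero, TensorProduct.mk_apply] at this
    simpa [algebraMap_smul] using this
  · intro v hv
    let e := piScalarRight R R' R' (Fin n)
    have hcomp : ∀ t, φ.lTensor R' t =
        Fintype.linearCombination R' (fun i => (1 : R') ⊗ₜ[R] x i) (e t) := by
      intro t
      induction t using TensorProduct.induction_on with
      | zero => simp
      | add a b ha hb => simp [map_add, ha, hb]
      | tmul r a =>
        simp only [φ, LinearMap.lTensor_tmul, Fintype.linearCombination_apply, tmul_sum, e,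
          piScalarRight_apply, piScalarRightHom_tmul]
        refine Finset.sum_congr rfl fun i _ => ?_
        rw [smul_tmul', tmul_smul, smul_tmul', smul_eq_mul, mul_one]
    obtain ⟨t, ht⟩ := (hex (e.symm v)).1 (by
      rw [hcomp, e.apply_symm_apply]; exact hv)
    have : v = e ((LinearMap.ker φ).subtype.lTensor R' t) := by rw [ht, e.apply_symm_apply]
    rw [this]
    clear ht this
    induction t using TensorProduct.induction_on with
    | zero => simp
    | add a b ha hb => simp only [map_add]; exact add_mem ha hb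
    | tmul r a =>
      have : e ((LinearMap.ker φ).subtype.lTensor R' (r ⊗ₜ a)) =
          r • (algebraMap R R' ∘ (a : Fin n → R)) := by
        ext i
        simp [e, piScalarRightHom_tmul, Algebra.smul_def, mul_comm]
      rw [this]
      exact Submodule.smul_mem _ _ (Submodule.subset_span ⟨a, a.2, rfl⟩)

theorem ideal_baseChange [Module.Finite R M] (k : ℕ) :
    Fitt.ideal R' (R' ⊗[R] M) k = (Fitt.ideal R M k).map (algebraMap R R') := by
  obtain ⟨n, x, hx⟩ := exists_gens R M
  rw [ideal_eq_minors_of_span _ (span_range_one_tmul R' x hx) (rels_baseChange R' x hx),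
    minors_image, ideal_eq_fitOf x hx]
  rfl

end BaseChange

theorem ideal_congr {N : Type w} [AddCommGroup N] [Module R N] [Module.Finite R M]
    (e : M ≃ₗ[R] N) (k : ℕ) : Fitt.ideal R M k = Fitt.ideal R N k := by
  obtain ⟨n, x, hx⟩ := exists_gens R M
  have hy : Submodule.span R (Set.range (e ∘ x)) = ⊤ := by
    rw [Set.range_comp, ← LinearEquiv.coe_coe, ← Submodule.map_span, hx, Submodule.map_top,
      LinearEquiv.range]
  rw [ideal_eq_fitOf x hx, ideal_eq_fitOf _ hy, fitOf, fitOf]
  congr 2
  ext v
  rw [mem_rels, mem_rels]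
  simp [← map_smul, ← map_sum]

theorem ideal_le_of_surjective {M' : Type w} [AddCommGroup M'] [Module R M'] [Module.Finite R M]
    (f : M →ₗ[R] M') (hf : Function.Surjective f) (k : ℕ) :
    Fitt.ideal R M k ≤ Fitt.ideal R M' k := by
  obtain ⟨n, x, hx⟩ := exists_gens R M
  have hy : Submodule.span R (Set.range (f ∘ x)) = ⊤ := by
    rw [Set.range_comp, ← Submodule.map_span, hx, Submodule.map_top, LinearMap.range_eq_top.2 hf]
  rw [ideal_eq_fitOf x hx, ideal_eq_fitOf _ hy, fitOf, fitOf]
  refine minors_mono (fun v hv => ?_) _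
  rw [SetLike.mem_coe, mem_rels] at hv ⊢
  simpa using congrArg f hv

theorem ideal_eq_top_of_gens {n : ℕ} (x : Fin n → M) (hx : Submodule.span R (Set.range x) = ⊤)
    {k : ℕ} (hk : n ≤ k) : Fitt.ideal R M k = ⊤ := by
  rw [ideal_eq_fitOf x hx, fitOf, Nat.sub_eq_zero_of_le hk, minors_zero]

lemma minors_bot {n p : ℕ} (S : Set (Fin n → R)) (hp : 0 < p) (hS : ∀ v ∈ S, v = 0) :
    minors S p = ⊥ := by
  rw [minors, Ideal.span_eq_bot]
  rintro d ⟨z, e, hz, rfl⟩
  exact det_eq_zero_of_column_eq_zero ⟨0, hp⟩ fun a => by simp [hS _ (hz _)]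

theorem ideal_of_basis {n : ℕ} (b : Module.Basis (Fin n) R M) (k : ℕ) :
    Fitt.ideal R M k = if n ≤ k then ⊤ else ⊥ := by
  split
  · next h => exact ideal_eq_top_of_gens b b.span_eq h
  · next h =>
    rw [ideal_eq_fitOf b b.span_eq, fitOf]
    refine minors_bot _ (by omega) fun v hv => ?_
    exact funext (Fintype.linearIndependent_iff.1 b.linearIndependent v (mem_rels.1 hv))

theorem ideal_of_free [Module.Free R M] [Module.Finite R M] [Nontrivial R] (k : ℕ) :
    Fitt.ideal R M k = if Module.finrank R M ≤ k then ⊤ else ⊥ :=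
  ideal_of_basis (Module.finBasis R M) k

theorem ideal_mono [Module.Finite R M] {k l : ℕ} (h : k ≤ l) :
    Fitt.ideal R M k ≤ Fitt.ideal R M l := by
  obtain ⟨n, x, hx⟩ := exists_gens R M
  rw [ideal_eq_fitOf x hx, ideal_eq_fitOf x hx]
  exact fitOf_le x k fun a s hs ha => det_mem_fitOf x l a s (by omega) ha

theorem ideal_zero_le_annihilator [Module.Finite R M] :
    Fitt.ideal R M 0 ≤ Module.annihilator R M := by
  obtain ⟨n, x, hx⟩ := exists_gens R M
  rw [ideal_eq_fitOf x hx]
  refine fitOf_le x 0 fun a s hs ha => ?_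
  rw [Module.mem_annihilator]
  intro m
  have hall : ∀ i, ∑ j, a i j • x j = 0 := by
    intro i
    refine mem_rels.1 (ha i ?_)
    have : s = Finset.univ := Finset.eq_univ_of_card _ (by
      have := Finset.card_le_univ s
      simp at this ⊢
      omega)
    simp [this]
  have hm : m ∈ Submodule.span R (Set.range x) := hx ▸ trivial
  induction hm using Submodule.span_induction with
  | mem v hv =>
    obtain ⟨c, rfl⟩ := hv
    have h1 : ∑ j, (a.adjugate * a) c j • x j = 0 := by
      simp only [Matrix.mul_apply, Finset.sum_smul, mul_smul]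
      rw [Finset.sum_comm]
      simp [← Finset.smul_sum, hall]
    simpa [adjugate_mul, Matrix.one_apply, ite_smul] using h1
  | zero => simp
  | add v w _ _ hv hw => simp [hv, hw]
  | smul r v _ hv => rw [smul_comm, hv, smul_zero]

theorem fg_of_finitePresentation [Module.FinitePresentation R M] (k : ℕ) :
    (Fitt.ideal R M k).FG := by
  classical
  obtain ⟨n, x, hx⟩ := exists_gens R M
  have hφ : Function.Surjective (Fintype.linearCombination R x) := by
    rw [← LinearMap.range_eq_top, Fintype.range_linearCombination, hx]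
  obtain ⟨S, hS⟩ := Module.FinitePresentation.fg_ker _ hφ
  rw [ideal_eq_minors_of_span x hx (S := (S : Set (Fin n → R))) hS, minors]
  refine Submodule.fg_span ?_
  refine Set.Finite.subset (Set.finite_range fun ze : (Fin (n - k) → S) × (Fin (n - k) → Fin n) =>
    (Matrix.of fun a b => (ze.1 b : Fin n → R) (ze.2 a)).det) ?_
  rintro d ⟨z, e, hz, rfl⟩
  exact ⟨(fun b => ⟨z b, hz b⟩, e), rfl⟩

end Groth.Agent.Fit14
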