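import Mathlib.RingTheory.LocalRing.Module
import Mathlib.RingTheory.Localization.BaseChange
import Mathlib.RingTheory.LocalRing.ResidueField.Ideal
import Mathlib.RingTheory.Support
import Groth.Agent.Fit14.Props

set_option autoImplicit false

open Matrix TensorProduct

namespace Groth.Agent.Fit14

universe u v w

variable {R : Type u} [CommRing R] {M : Type v} [AddCommGroup M] [Module R M]

theorem nontrivial_away (f : R) (h : ¬ IsNilpotent f) : Nontrivial (Localization.Away f) := by
  refine not_subsingleton_iff_nontrivial.1 fun hs => h ?_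
  obtain ⟨⟨_, n, rfl⟩, hn⟩ := (IsLocalization.map_eq_zero_iff (Submonoid.powers f)
    (Localization.Away f) (1 : R)).1 (Subsingleton.elim _ _)
  exact ⟨n, by simpa using hn⟩

theorem pow_mem_ideal_zero {n : ℕ} (x : Fin n → M) (hx : Submodule.span R (Set.range x) = ⊤)
    {f : R} (hf : ∀ i, f • x i = 0) : f ^ n ∈ Fitt.ideal R M 0 := by
  rw [ideal_eq_fitOf x hx]
  have := det_mem_fitOf x 0 (Matrix.diagonal fun _ => f) Finset.univ (by simp) (fun i _ => ?_)
  · simpa [det_diagonal] using this
  · rw [mem_rels]
    simp [Matrix.diagonal_apply, ite_smul, hf]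

theorem zeroLocus_ideal_zero [Module.Finite R M] :
    PrimeSpectrum.zeroLocus (Fitt.ideal R M 0 : Set R) = Module.support R M := by
  rw [Module.support_eq_zeroLocus]
  refine le_antisymm ?_ (PrimeSpectrum.zeroLocus_anti_mono ideal_zero_le_annihilator)
  intro p hp f hf
  obtain ⟨n, x, hx⟩ := exists_gens R M
  exact p.isPrime.mem_of_pow_mem n (hp (pow_mem_ideal_zero x hx
    fun i => Module.mem_annihilator.1 hf (x i)))

theorem ideal_baseChange_field [Module.Finite R M] (K : Type w) [Field K] [Algebra R K] (k : ℕ) :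
    (Fitt.ideal R M k).map (algebraMap R K) = ⊤ ↔ Module.finrank K (K ⊗[R] M) ≤ k := by
  rw [← ideal_baseChange K k, ideal_of_free k]
  split <;> simp_all [bot_ne_top]

theorem not_le_iff_finrank_le [Module.Finite R M] (p : Ideal R) [p.IsPrime] (k : ℕ) :
    ¬ Fitt.ideal R M k ≤ p ↔ Module.finrank p.ResidueField (p.ResidueField ⊗[R] M) ≤ k := by
  rw [← ideal_baseChange_field]
  constructor
  · intro h
    rcases Ideal.eq_bot_or_top ((Fitt.ideal R M k).map (algebraMap R p.ResidueField)) with h' | h'
    · exact absurd (((Ideal.map_eq_bot_iff_le_ker _).1 h').trans p.ker_algebraMap_residueField.le) h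
    · exact h'
  · intro h hle
    rw [(Ideal.map_eq_bot_iff_le_ker _).2 (hle.trans p.ker_algebraMap_residueField.ge)] at h
    exact bot_ne_top h

theorem exists_gens_of_ideal_eq_top [IsLocalRing R] [Module.Finite R M] {k : ℕ}
    (h : Fitt.ideal R M k = ⊤) :
    ∃ y : Fin k → M, Submodule.span R (Set.range y) = ⊤ := by
  classical
  let κ := IsLocalRing.ResidueField R
  have hle : Module.finrank κ (κ ⊗[R] M) ≤ k :=
    (ideal_baseChange_field κ k).1 (by rw [h, Ideal.map_top])
  let b := Module.finBasis κ (κ ⊗[R] M)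
  have hsurj : Function.Surjective (TensorProduct.mk R κ M 1) :=
    TensorProduct.mk_surjective R M κ IsLocalRing.residue_surjective
  choose v hv using fun i => hsurj (b i)
  have hspan := IsLocalRing.span_eq_top_of_tmul_eq_basis v b (by simpa using hv)
  refine ⟨fun i => if hi : (i : ℕ) < _ then v ⟨i, hi⟩ else 0, top_le_iff.1 (hspan.ge.trans
    (Submodule.span_mono ?_))⟩
  rintro _ ⟨i, rfl⟩
  exact ⟨Fin.castLE hle i, by simp⟩

theorem ideal_localizedModule (S : Submonoid R) [Module.Finite R M] (k : ℕ) :
    Fitt.ideal (Localization S) (LocalizedModule S M) k =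
      (Fitt.ideal R M k).map (algebraMap R (Localization S)) := by
  rw [← ideal_baseChange (Localization S) k]
  exact (ideal_congr (LocalizedModule.equivTensorProduct S M).symm k).symm

theorem exists_gens_atPrime_iff [Module.Finite R M] (p : Ideal R) [p.IsPrime] (k : ℕ) :
    (∃ g : Fin k → LocalizedModule p.primeCompl M,
      Submodule.span (Localization.AtPrime p) (Set.range g) = ⊤) ↔ ¬ Fitt.ideal R M k ≤ p := by
  have key : (Fitt.ideal R M k).map (algebraMap R (Localization.AtPrime p)) = ⊤ ↔
      ¬ Fitt.ideal R M k ≤ p := by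
    rw [← not_ne_iff, IsLocalization.map_algebraMap_ne_top_iff_disjoint p.primeCompl]
    simp [Set.disjoint_left, SetLike.le_def, Ideal.primeCompl, and_comm]
  constructor
  · rintro ⟨g, hg⟩
    exact key.1 ((ideal_localizedModule p.primeCompl k).symm.trans
      (ideal_eq_top_of_gens g hg le_rfl))
  · intro h
    exact exists_gens_of_ideal_eq_top ((ideal_localizedModule p.primeCompl k).trans (key.2 h))

theorem exists_smul_mem_span (S : Submonoid R) {k : ℕ} (m : Fin k → M)
    (hm : Submodule.span (Localization S)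
      (Set.range fun i => LocalizedModule.mkLinearMap S M (m i)) = ⊤) (x : M) :
    ∃ s ∈ S, s • x ∈ Submodule.span R (Set.range m) := by
  obtain ⟨c, hc⟩ := (Submodule.mem_span_range_iff_exists_fun (Localization S)).1
    (hm ▸ Submodule.mem_top : LocalizedModule.mkLinearMap S M x ∈ _)
  obtain ⟨b, hb⟩ := IsLocalization.exist_integer_multiples_of_finite S c
  choose r hr using hb
  have : LocalizedModule.mkLinearMap S M ((b : R) • x) =
      LocalizedModule.mkLinearMap S M (∑ i, r i • m i) := by
    rw [map_smul, map_sum, ← hc, Finset.smul_sum]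
    refine Finset.sum_congr rfl fun i _ => ?_
    rw [map_smul, ← algebraMap_smul (Localization S) (r i), hr i, smul_assoc]
  obtain ⟨u, hu⟩ := (IsLocalizedModule.eq_iff_exists S (LocalizedModule.mkLinearMap S M)).1 this
  refine ⟨u * b, mul_mem u.2 b.2, ?_⟩
  rw [mul_smul]
  rw [Submonoid.smul_def] at hu
  rw [hu]
  exact Submodule.smul_mem _ _ (Submodule.sum_mem _ fun i _ =>
    Submodule.smul_mem _ _ (Submodule.subset_span ⟨i, rfl⟩))

theorem exists_gens_away [Module.Finite R M] (p : Ideal R) [p.IsPrime] {k : ℕ}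
    (g : Fin k → LocalizedModule p.primeCompl M)
    (hg : Submodule.span (Localization.AtPrime p) (Set.range g) = ⊤) :
    ∃ (f : R) (m : Fin k → M), f ∉ p ∧
      Submodule.span (Localization.Away f)
        (Set.range fun i => LocalizedModule.mkLinearMap (Submonoid.powers f) M (m i)) = ⊤ := by
  classical
  let L := LocalizedModule.mkLinearMap p.primeCompl M
  have hm : ∀ i, ∃ m : M, L m ∈ Submodule.span (Localization.AtPrime p) {g i} ∧
      g i ∈ Submodule.span (Localization.AtPrime p) {L m} := by
    intro i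
    obtain ⟨⟨m, s⟩, hms⟩ := IsLocalizedModule.surj p.primeCompl L (g i)
    rw [Submonoid.smul_def, ← algebraMap_smul (Localization.AtPrime p)] at hms
    refine ⟨m, hms ▸ Submodule.smul_mem _ _ (Submodule.mem_span_singleton_self _), ?_⟩
    obtain ⟨t, ht⟩ : IsUnit (algebraMap R (Localization.AtPrime p) s) := IsLocalization.map_units _ s
    rw [← ht] at hms
    rw [← inv_smul_smul t (g i), Units.smul_def t (g i), hms]
    exact Submodule.smul_mem _ _ (Submodule.mem_span_singleton_self _)
  choose m _ hm2 using hm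
  have hspan : Submodule.span (Localization.AtPrime p) (Set.range fun i => L (m i)) = ⊤ := by
    rw [eq_top_iff, ← hg, Submodule.span_le]
    rintro _ ⟨i, rfl⟩
    exact Submodule.span_mono (R := Localization.AtPrime p) (s := {L (m i)}) (by simp) (hm2 i)
  obtain ⟨n, x, hx⟩ := exists_gens R M
  choose s hs hsx using fun j => exists_smul_mem_span p.primeCompl m hspan (x j)
  refine ⟨∏ j, s j, m, prod_mem (S := p.primeCompl) (fun j _ => hs j), ?_⟩
  set f := ∏ j, s j
  let Lf := LocalizedModule.mkLinearMap (Submonoid.powers f) M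
  have hall : ∀ y : M, f • y ∈ Submodule.span R (Set.range m) := by
    intro y
    have hy : y ∈ Submodule.span R (Set.range x) := hx ▸ trivial
    induction hy using Submodule.span_induction with
    | mem v hv =>
      obtain ⟨j, rfl⟩ := hv
      obtain ⟨t, ht⟩ : s j ∣ f := Finset.dvd_prod_of_mem _ (Finset.mem_univ j)
      rw [ht, mul_comm, mul_smul]
      exact Submodule.smul_mem _ _ (hsx j)
    | zero => simp
    | add v w _ _ hv hw => rw [smul_add]; exact add_mem hv hw
    | smul r v _ hv => rw [smul_comm]; exact Submodule.smul_mem _ _ hv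
  rw [eq_top_iff]
  intro z _
  obtain ⟨⟨y, e⟩, hye⟩ := IsLocalizedModule.surj (Submonoid.powers f) Lf z
  have h1 : Lf (f • y) ∈ Submodule.span (Localization.Away f) (Set.range fun i => Lf (m i)) := by
    obtain ⟨c, hc⟩ := (Submodule.mem_span_range_iff_exists_fun R).1 (hall y)
    rw [← hc, map_sum]
    refine Submodule.sum_mem _ fun i _ => ?_
    rw [map_smul, ← algebraMap_smul (Localization.Away f)]
    exact Submodule.smul_mem _ _ (Submodule.subset_span ⟨i, rfl⟩)
  rw [map_smul, ← hye, Submonoid.smul_def, smul_smul,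
    ← algebraMap_smul (Localization.Away f) (f * (e : R))] at h1
  have hu : IsUnit (algebraMap R (Localization.Away f) (f * e)) :=
    IsLocalization.map_units (Localization.Away f)
      (⟨f * (e : R), mul_mem (Submonoid.mem_powers f) e.2⟩ : ↥(Submonoid.powers f))
  exact (Submodule.smul_mem_iff_of_isUnit _ hu).1 h1

theorem free_of_gens_of_ideal_eq_bot {r : ℕ} (y : Fin r → M)
    (hy : Submodule.span R (Set.range y) = ⊤) (h : ∀ k, k < r → Fitt.ideal R M k = ⊥) :
    Nonempty (Module.Basis (Fin r) R M) := by
  refine ⟨Module.Basis.mk (Fintype.linearIndependent_iff.2 fun a ha i => ?_) hy.ge⟩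
  have hr : r - (r - 1) = 1 := by have := i.2; omega
  have := h (r - 1) (by omega)
  rw [ideal_eq_fitOf y hy, fitOf, hr] at this
  have hmem : a i ∈ minors (rels (R := R) y : Set (Fin r → R)) 1 :=
    Ideal.subset_span ⟨fun _ => a, fun _ => i, fun _ => mem_rels.2 ha, by simp⟩
  rwa [this, Ideal.mem_bot] at hmem

theorem locallyFree_iff [Module.Finite R M] (r : ℕ) :
    (∀ (p : Ideal R) [p.IsPrime], ∃ f : R, f ∉ p ∧
      Module.Free (Localization.Away f) (LocalizedModule (Submonoid.powers f) M) ∧
        Module.finrank (Localization.Away f) (LocalizedModule (Submonoid.powers f) M) = r) ↔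
    ((∀ k, k < r → Fitt.ideal R M k = ⊥) ∧ (∀ k, r ≤ k → Fitt.ideal R M k = ⊤)) := by
  constructor
  · intro h
    have key : ∀ (p : Ideal R) [p.IsPrime], ∃ f : R, f ∉ p ∧ ∀ k,
        (Fitt.ideal R M k).map (algebraMap R (Localization.Away f)) =
          if r ≤ k then ⊤ else ⊥ := by
      intro p _
      obtain ⟨f, hf, h1, h2⟩ := h p
      have : Nontrivial (Localization.Away f) :=
        nontrivial_away f fun hn =>
          hf (let ⟨j, hj⟩ := hn; Ideal.IsPrime.mem_of_pow_mem inferInstance j (by rw [hj]; exact p.zero_mem))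
      refine ⟨f, hf, fun k => ?_⟩
      have : Module.Finite (Localization.Away f) (LocalizedModule (Submonoid.powers f) M) :=
        Module.Finite.of_isLocalizedModule (Submonoid.powers f)
          (LocalizedModule.mkLinearMap (Submonoid.powers f) M)
      rw [← ideal_localizedModule, ideal_of_free, h2]
    refine ⟨fun k hk => ?_, fun k hk => ?_⟩
    · rw [eq_bot_iff]
      intro a ha
      rw [Ideal.mem_bot]
      by_contra hne
      have hA : Ideal.torsionOf R R a ≠ ⊤ := fun ht =>
        hne ((Ideal.torsionOf_eq_top_iff (R := R) a).1 ht)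
      obtain ⟨m, hm, hle⟩ := Ideal.exists_le_maximal _ hA
      obtain ⟨f, hf, hk'⟩ := key m
      have h0 := Ideal.mem_map_of_mem (algebraMap R (Localization.Away f)) ha
      rw [hk', if_neg (by omega), Ideal.mem_bot,
        IsLocalization.map_eq_zero_iff (Submonoid.powers f)] at h0
      obtain ⟨c, hc⟩ := h0
      obtain ⟨j, hj⟩ := c.2
      exact hf (hm.isPrime.mem_of_pow_mem j (hle ((Ideal.mem_torsionOf_iff a _).2 (by
        rw [smul_eq_mul, show f ^ j = (c : R) from hj, hc]))))
    · by_contra hne
      obtain ⟨m, hm, hle⟩ := Ideal.exists_le_maximal _ hne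
      obtain ⟨f, hf, hk'⟩ := key m
      have h0 := hk' k
      rw [if_pos hk, ← not_ne_iff, IsLocalization.map_algebraMap_ne_top_iff_disjoint (Submonoid.powers f)] at h0
      obtain ⟨c, hc1, hc2⟩ := Set.not_disjoint_iff.1 h0
      obtain ⟨j, rfl⟩ := hc1
      exact hf (hm.isPrime.mem_of_pow_mem j (hle hc2))
  · rintro ⟨h1, h2⟩ p _
    obtain ⟨g, hg⟩ := (exists_gens_atPrime_iff p r).2
      (by rw [h2 r le_rfl]; exact fun h => Ideal.IsPrime.ne_top' (top_le_iff.1 h))
    obtain ⟨f, m, hf, hm⟩ := exists_gens_away p g hg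
    refine ⟨f, hf, ?_⟩
    have : Nontrivial (Localization.Away f) :=
      nontrivial_away f fun hn =>
        hf (let ⟨j, hj⟩ := hn; Ideal.IsPrime.mem_of_pow_mem inferInstance j (by rw [hj]; exact p.zero_mem))
    obtain ⟨b⟩ := free_of_gens_of_ideal_eq_bot _ hm
      fun k hk => (ideal_localizedModule _ k).trans (by rw [h1 k hk, Ideal.map_bot])
    exact ⟨Module.Free.of_basis b, by simpa using Module.finrank_eq_card_basis b⟩

end Groth.Agent.Fit14
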