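import Groth.Agent.Fit14.Tors
import Groth.Prelude.Def_BlowUp2
import Groth.Prelude.Def_FlatCA

set_option autoImplicit false

open Matrix TensorProduct

namespace Groth.Agent.Fit14

universe u

variable {R : Type u} [CommRing R]

lemma blowUp_regular {I : Ideal R} {a : R} {R₁ : Type u} [CommRing R₁] [Algebra R R₁]
    (e : R₁ ≃ₐ[R] ↥(BlowUp.affineAlgebra R I a)) : algebraMap R R₁ a ∈ nonZeroDivisors R₁ := by
  refine mem_nonZeroDivisors_iff_right.2 fun y hy => ?_
  have h := congrArg (fun z => ((e z : Localization.Away a))) hy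
  simp only [map_mul, map_zero, AlgEquiv.commutes, MulMemClass.coe_mul, ZeroMemClass.coe_zero,
    SubalgebraClass.coe_algebraMap] at h
  have hu : IsUnit (algebraMap R (Localization.Away a) a) :=
    IsLocalization.map_units (Localization.Away a) (⟨a, Submonoid.mem_powers a⟩ : Submonoid.powers a)
  exact e.injective (Subtype.ext (by simpa using hu.mul_left_eq_zero.1 h))

lemma blowUp_map_eq {I : Ideal R} {a : R} (ha : a ∈ I) {R₁ : Type u} [CommRing R₁] [Algebra R R₁]
    (e : R₁ ≃ₐ[R] ↥(BlowUp.affineAlgebra R I a)) :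
    I.map (algebraMap R R₁) = Ideal.span {algebraMap R R₁ a} := by
  refine le_antisymm (Ideal.map_le_iff_le_comap.2 fun x hx => ?_)
    ((Ideal.span_singleton_le_iff_mem _).2 (Ideal.mem_map_of_mem _ ha))
  have hq : IsLocalization.mk' (Localization.Away a) x ⟨a, Submonoid.mem_powers a⟩ ∈
      BlowUp.affineAlgebra R I a := Algebra.subset_adjoin ⟨x, hx, rfl⟩
  rw [Ideal.mem_comap, Ideal.mem_span_singleton']
  refine ⟨e.symm ⟨_, hq⟩, e.injective (Subtype.ext ?_)⟩
  simp [IsLocalization.mk'_spec (Localization.Away a) x (⟨a, Submonoid.mem_powers a⟩ : Submonoid.powers a)]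

lemma mem_powTorsion {S : Type u} [CommRing S] (s : S) {N : Type u} [AddCommGroup N] [Module S N] (m : N) :
    m ∈ FlatCA.powTorsion S s N ↔ ∃ i : ℕ, s ^ i • m = 0 := by
  rw [FlatCA.powTorsion, Submodule.mem_iSup_of_directed]
  · simp [Submodule.mem_torsionBy_iff]
  · refine Monotone.directed_le (monotone_nat_of_le_succ fun i x hx => ?_)
    rw [Submodule.mem_torsionBy_iff] at hx ⊢
    rw [pow_succ', mul_smul, hx, smul_zero]

section

variable (M : Type u) [AddCommGroup M] [Module R M] [Module.Finite R M]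
  (R₁ : Type u) [CommRing R₁] [Algebra R R₁]

theorem strictTransform_ideal_eq_top {n : ℕ} (x : Fin n → M) (hx : Submodule.span R (Set.range x) = ⊤)
    (k : ℕ) (S : Set (Fin n → R)) (hS : S ⊆ (rels (R := R) x : Set (Fin n → R))) (a : R) (s : R₁)
    (hs0 : s ∈ nonZeroDivisors R₁) (hs : (minors S (n - k)).map (algebraMap R R₁) = Ideal.span {s})
    (hdvd : s ∣ algebraMap R R₁ a) :
    Fitt.ideal R₁ ((R₁ ⊗[R] M) ⧸ FlatCA.powTorsion R₁ (algebraMap R R₁ a) (R₁ ⊗[R] M)) k = ⊤ := by
  refine ideal_eq_top_of_quotient_of_regular (R := R₁) _ (span_range_one_tmul R₁ x hx) k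
    ((fun v => algebraMap R R₁ ∘ v) '' S) ?_ s hs0 (by rw [minors_image, hs]) (Submodule.mkQ _)
    (Submodule.mkQ_surjective _) fun m hm => ?_
  · rw [← rels_baseChange R₁ x hx]
    exact (Set.image_mono hS).trans Submodule.subset_span
  · rw [Submodule.mkQ_apply, Submodule.Quotient.mk_eq_zero, mem_powTorsion]
    obtain ⟨t, ht⟩ := hdvd
    exact ⟨1, by rw [pow_one, ht, mul_comm, mul_smul, hm, smul_zero]⟩

theorem strictTransform_ideal_eq_bot (k : ℕ) (a : R) (ha : algebraMap R R₁ a ∈ nonZeroDivisors R₁)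
    (h : ∀ (p : Ideal R) [p.IsPrime], a ∉ p →
      (Fitt.ideal R M k).map (algebraMap R (Localization.AtPrime p)) = ⊥) :
    Fitt.ideal R₁ ((R₁ ⊗[R] M) ⧸ FlatCA.powTorsion R₁ (algebraMap R R₁ a) (R₁ ⊗[R] M)) k = ⊥ := by
  refine ideal_eq_bot_of_torsion k _ ha (Submodule.mkQ _) (Submodule.mkQ_surjective _) ?_ ?_
  · intro m hm
    rwa [Submodule.mkQ_apply, Submodule.Quotient.mk_eq_zero, mem_powTorsion] at hm
  · rw [ideal_baseChange R₁ k, eq_bot_iff, Ideal.map_le_iff_le_comap]
    intro r hr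
    rw [Ideal.mem_comap, Ideal.mem_bot]
    by_cases hd : Disjoint (Ideal.torsionOf R R r : Set R) (Submonoid.powers a : Set R)
    · obtain ⟨p, hp, hle, hdis⟩ := Ideal.exists_le_prime_disjoint _ _ hd
      have hap : a ∉ p := fun h' => Set.disjoint_left.1 hdis h' (Submonoid.mem_powers a)
      have h0 := Ideal.mem_map_of_mem (algebraMap R (Localization.AtPrime p)) hr
      rw [h p hap, Ideal.mem_bot, IsLocalization.map_eq_zero_iff p.primeCompl] at h0
      obtain ⟨c, hc⟩ := h0
      exact absurd (hle ((Ideal.mem_torsionOf_iff r _).2 (by rw [smul_eq_mul]; exact hc))) c.2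
    · obtain ⟨c, hc1, i, hi⟩ := Set.not_disjoint_iff.1 hd
      subst hi
      rw [SetLike.mem_coe, Ideal.mem_torsionOf_iff, smul_eq_mul] at hc1
      have := congrArg (algebraMap R R₁) hc1
      rw [map_mul, map_pow, map_zero] at this
      exact mem_nonZeroDivisors_iff_left.1 (pow_mem ha i) _ this

end

theorem strictTransform_locallyFree (M : Type u) [AddCommGroup M] [Module R M] [Module.Finite R M] (k : ℕ)
    (hfree : ∀ (p : Ideal R) [p.IsPrime], ¬ Fitt.ideal R M k ≤ p →
      Module.Free (Localization.AtPrime p) (LocalizedModule p.primeCompl M) ∧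
        Module.finrank (Localization.AtPrime p) (LocalizedModule p.primeCompl M) = k)
    (a : R) (ha : a ∈ Fitt.ideal R M k) (R₁ : Type u) [CommRing R₁] [Algebra R R₁]
    (e : R₁ ≃ₐ[R] ↥(BlowUp.affineAlgebra R (Fitt.ideal R M k) a)) (p' : Ideal R₁) [p'.IsPrime] :
    ∃ g : R₁, g ∉ p' ∧
      Module.Free (Localization.Away g) (LocalizedModule (Submonoid.powers g) ((R₁ ⊗[R] M) ⧸ FlatCA.powTorsion R₁ (algebraMap R R₁ a) (R₁ ⊗[R] M))) ∧
      Module.finrank (Localization.Away g) (LocalizedModule (Submonoid.powers g) ((R₁ ⊗[R] M) ⧸ FlatCA.powTorsion R₁ (algebraMap R R₁ a) (R₁ ⊗[R] M))) = k := by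
  obtain ⟨n, x, hx⟩ := exists_gens R M
  refine (locallyFree_iff k).2 ⟨fun j hj => ?_, fun j hj => ?_⟩ p'
  · refine strictTransform_ideal_eq_bot M R₁ j a (blowUp_regular e) fun p _ hap => ?_
    obtain ⟨h1, h2⟩ := hfree p fun hle => hap (hle ha)
    rw [← ideal_localizedModule]
    have : Module.Finite (Localization.AtPrime p) (LocalizedModule p.primeCompl M) :=
      Module.Finite.of_isLocalizedModule p.primeCompl (LocalizedModule.mkLinearMap p.primeCompl M)
    rw [ideal_of_free, h2, if_neg (by omega)]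
  · refine top_le_iff.1 ((strictTransform_ideal_eq_top M R₁ x hx k _ subset_rfl a _ (blowUp_regular e)
      ?_ dvd_rfl).ge.trans (ideal_mono hj))
    have := blowUp_map_eq ha e
    rw [ideal_eq_fitOf x hx] at this
    exact this

theorem exists_finset_minors {M : Type u} [AddCommGroup M] [Module R M] {n p : ℕ} (x : Fin n → M) {r : R}
    (hr : r ∈ minors (rels (R := R) x : Set (Fin n → R)) p) :
    ∃ S : Finset (Fin n → R), (S : Set (Fin n → R)) ⊆ (rels (R := R) x : Set (Fin n → R)) ∧
      r ∈ minors (S : Set (Fin n → R)) p := by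
  classical
  induction hr using Submodule.span_induction with
  | mem d hd =>
    obtain ⟨z, e, hz, rfl⟩ := hd
    refine ⟨Finset.univ.image z, ?_, Ideal.subset_span ⟨z, e, fun b => by simp, rfl⟩⟩
    intro v hv
    simp only [Finset.coe_image, Finset.coe_univ, Set.image_univ, Set.mem_range] at hv
    obtain ⟨b, rfl⟩ := hv
    exact hz b
  | zero => exact ⟨∅, by simp, Submodule.zero_mem _⟩
  | add a b _ _ ha hb =>
    obtain ⟨S, hS, h1⟩ := ha
    obtain ⟨T, hT, h2⟩ := hb
    exact ⟨S ∪ T, by rw [Finset.coe_union]; exact Set.union_subset hS hT,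
      Submodule.add_mem _ (minors_mono (by simp) p h1) (minors_mono (by simp) p h2)⟩
  | smul c a _ ha =>
    obtain ⟨S, hS, h1⟩ := ha
    exact ⟨S, hS, Submodule.smul_mem _ c h1⟩

lemma span_singleton_mul_cancel {S : Type u} [CommRing S] {f : S} (hf : f ∈ nonZeroDivisors S) {I J : Ideal S}
    (h : Ideal.span {f} * I = Ideal.span {f} * J) : I = J := by
  have key : ∀ {I J : Ideal S}, Ideal.span {f} * I = Ideal.span {f} * J → I ≤ J := by
    intro I J h x hx
    obtain ⟨y, hy, hyx⟩ := Ideal.mem_span_singleton_mul.1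
      (h ▸ Ideal.mul_mem_mul (Ideal.mem_span_singleton_self f) hx)
    have : y = x := sub_eq_zero.1 (mem_nonZeroDivisors_iff_left.1 hf _ (by rw [mul_sub, hyx, sub_self]))
    exact this ▸ hy
  exact le_antisymm (key h) (key h.symm)

theorem exists_blowUp (M : Type u) [AddCommGroup M] [Module R M] [Module.Finite R M] (f : R) (r : ℕ)
    (hf : ∀ (p : Ideal R) [p.IsPrime], f ∉ p → ∃ g : R, g ∉ p ∧ g ∈ (Ideal.span {f}).radical ∧
      Module.Free (Localization.Away g) (LocalizedModule (Submonoid.powers g) M) ∧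
        Module.finrank (Localization.Away g) (LocalizedModule (Submonoid.powers g) M) = r) :
    ∃ I : Ideal R, I.FG ∧ I.radical = (Ideal.span {f}).radical ∧ ∀ a ∈ I, ∀ (R₁ : Type u) [CommRing R₁] [Algebra R R₁] (e : R₁ ≃ₐ[R] ↥(BlowUp.affineAlgebra R I a)),
      ∀ (p' : Ideal R₁) [p'.IsPrime], ∃ g : R₁, g ∉ p' ∧
        Module.Free (Localization.Away g) (LocalizedModule (Submonoid.powers g) ((R₁ ⊗[R] M) ⧸ FlatCA.powTorsion R₁ (algebraMap R R₁ a) (R₁ ⊗[R] M))) ∧
        Module.finrank (Localization.Away g) (LocalizedModule (Submonoid.powers g) ((R₁ ⊗[R] M) ⧸ FlatCA.powTorsion R₁ (algebraMap R R₁ a) (R₁ ⊗[R] M))) = r := by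
  classical
  obtain ⟨n, x, hx⟩ := exists_gens R M
  have hloc : ∀ (p : Ideal R) [p.IsPrime], f ∉ p → ∀ k,
      (Fitt.ideal R M k).map (algebraMap R (Localization.AtPrime p)) = if r ≤ k then ⊤ else ⊥ := by
    intro p _ hfp k
    obtain ⟨g, hg, -, h1, h2⟩ := hf p hfp
    have : Nontrivial (Localization.Away g) := nontrivial_away g fun ⟨j, hj⟩ =>
      hg (Ideal.IsPrime.mem_of_pow_mem inferInstance j (by rw [hj]; exact p.zero_mem))
    have : Module.Finite (Localization.Away g) (LocalizedModule (Submonoid.powers g) M) :=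
      Module.Finite.of_isLocalizedModule (Submonoid.powers g) (LocalizedModule.mkLinearMap (Submonoid.powers g) M)
    have h3 := ideal_localizedModule (M := M) (Submonoid.powers g) k
    rw [ideal_of_free, h2] at h3
    have hu : ∀ y : Submonoid.powers g, IsUnit (algebraMap R (Localization.AtPrime p) y) := fun ⟨_, j, rfl⟩ =>
      IsLocalization.map_units (Localization.AtPrime p) (⟨g ^ j, fun h => hg (Ideal.IsPrime.mem_of_pow_mem inferInstance j h)⟩ : p.primeCompl)
    let φ : Localization.Away g →+* Localization.AtPrime p := IsLocalization.lift hu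
    have hφ : φ.comp (algebraMap R (Localization.Away g)) = algebraMap R (Localization.AtPrime p) :=
      IsLocalization.lift_comp hu
    rw [← hφ, ← Ideal.map_map, ← h3]
    split <;> simp [Ideal.map_top, Ideal.map_bot]
  obtain ⟨N, hN⟩ : f ∈ (Fitt.ideal R M r).radical := by
    rw [Ideal.radical_eq_sInf, Ideal.mem_sInf]
    rintro J ⟨hle, hJ⟩
    by_contra hfJ
    have h4 := hloc J hfJ r
    rw [if_pos le_rfl, ← not_ne_iff, IsLocalization.map_algebraMap_ne_top_iff_disjoint J.primeCompl] at h4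
    obtain ⟨c, hc1, hc2⟩ := Set.not_disjoint_iff.1 h4
    exact hc1 (hle hc2)
  rw [ideal_eq_fitOf x hx] at hN
  obtain ⟨S, hS, hfS⟩ := exists_finset_minors x hN
  let I0 := minors (S : Set (Fin n → R)) (n - r)
  have hI0 : I0.FG := by
    refine Submodule.fg_span (Set.Finite.subset (Set.finite_range fun ze : (Fin (n - r) → S) × (Fin (n - r) → Fin n) =>
      (Matrix.of fun a b => (ze.1 b : Fin n → R) (ze.2 a)).det) ?_)
    rintro d ⟨z, e, hz, rfl⟩
    exact ⟨(fun b => ⟨z b, hz b⟩, e), rfl⟩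
  refine ⟨Ideal.span {f} * I0, Submodule.FG.mul (Submodule.fg_span_singleton f) hI0, ?_, ?_⟩
  · refine le_antisymm (Ideal.radical_mono Ideal.mul_le_left) ?_
    rw [Ideal.radical_le_radical_iff, Ideal.span_singleton_le_iff_mem]
    exact ⟨N + 1, by rw [pow_succ']; exact Ideal.mul_mem_mul (Ideal.mem_span_singleton_self f) hfS⟩
  intro a ha R₁ _ _ e p' _
  obtain ⟨s₀, hs₀, has⟩ := Ideal.mem_span_singleton_mul.1 ha
  have haR := blowUp_regular e
  have hf0 : algebraMap R R₁ f ∈ nonZeroDivisors R₁ := by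
    rw [← has, map_mul] at haR
    exact (mul_mem_nonZeroDivisors.1 haR).1
  have hs1 : algebraMap R R₁ s₀ ∈ nonZeroDivisors R₁ := by
    rw [← has, map_mul] at haR
    exact (mul_mem_nonZeroDivisors.1 haR).2
  have hmap : I0.map (algebraMap R R₁) = Ideal.span {algebraMap R R₁ s₀} := by
    have h := blowUp_map_eq ha e
    rw [Ideal.map_mul, Ideal.map_span, Set.image_singleton, ← has, map_mul,
      ← Ideal.span_singleton_mul_span_singleton] at h
    exact span_singleton_mul_cancel hf0 h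
  refine (locallyFree_iff r).2 ⟨fun j hj => ?_, fun j hj => ?_⟩ p'
  · refine strictTransform_ideal_eq_bot M R₁ j a haR fun p _ hap => ?_
    rw [hloc p (fun hfp => hap (has ▸ p.mul_mem_right _ hfp)) j, if_neg (by omega)]
  · have hdv : algebraMap R R₁ s₀ ∣ algebraMap R R₁ a :=
      ⟨algebraMap R R₁ f, by rw [← has, map_mul, mul_comm]⟩
    have := strictTransform_ideal_eq_top M R₁ x hx r (S : Set (Fin n → R)) hS a _ hs1 hmap hdv
    exact top_le_iff.1 (this.ge.trans (ideal_mono hj))

end Groth.Agent.Fit14
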