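import Mathlib.LinearAlgebra.Matrix.Block
import Groth.Agent.Fit14.Props

set_option autoImplicit false

open Matrix

namespace Groth.Agent.Fit14

universe u v w

variable {R : Type u} [CommRing R] {M : Type v} [AddCommGroup M] [Module R M]
  {M' : Type w} [AddCommGroup M'] [Module R M']

/-- Determinant of a square matrix reindexed to a block diagonal one. -/
lemma det_pure {n m : ℕ} {ι : Type*} [Fintype ι] [DecidableEq ι] (e : Fin n ⊕ Fin m ≃ ι)
    (a : Matrix ι ι R) (L : Finset ι)
    (hL : ∀ i ∈ L, ∀ j, a i (e (Sum.inr j)) = 0) (hR : ∀ i ∉ L, ∀ j, a i (e (Sum.inl j)) = 0) :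
    (L.card ≠ n → a.det = 0) := by
  classical
  intro hne
  rw [det_apply]
  refine Finset.sum_eq_zero fun σ _ => ?_
  suffices ∃ c, a (σ c) c = 0 by
    obtain ⟨c, hc⟩ := this
    rw [Finset.prod_eq_zero (f := fun i => a (σ i) i) (Finset.mem_univ c) hc, smul_zero]
  by_contra hall
  push Not at hall
  refine hne ?_
  have h1 : L = (Finset.univ : Finset (Fin n)).image (fun j => σ (e (Sum.inl j))) := by
    ext i
    simp only [Finset.mem_image, Finset.mem_univ, true_and]
    constructor
    · intro hi
      obtain ⟨c, rfl⟩ := σ.surjective i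
      obtain ⟨d, rfl⟩ := e.surjective c
      rcases d with j | j
      · exact ⟨j, rfl⟩
      · exact absurd (hL _ hi j) (hall _)
    · rintro ⟨j, rfl⟩
      by_contra hi
      exact hall _ (hR _ hi j)
  rw [h1, Finset.card_image_of_injective _ (fun p q hpq => Sum.inl_injective (e.injective (σ.injective hpq)))]
  simp

theorem ideal_prod [Module.Finite R M] [Module.Finite R M'] (l : ℕ) :
    Fitt.ideal R (M × M') l =
      ∑ k ∈ Finset.range (l + 1), Fitt.ideal R M k * Fitt.ideal R M' (l - k) := by
  classical
  obtain ⟨n, x, hx⟩ := exists_gens R M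
  obtain ⟨m, y, hy⟩ := exists_gens R M'
  let z : Fin (n + m) → M × M' := Fin.append (fun i => (x i, 0)) (fun j => (0, y j))
  have hz : Submodule.span R (Set.range z) = ⊤ := by
    rw [eq_top_iff]
    rintro ⟨a, b⟩ -
    obtain ⟨c, rfl⟩ := (Submodule.mem_span_range_iff_exists_fun R).1 (hx ▸ Submodule.mem_top : a ∈ _)
    obtain ⟨d, rfl⟩ := (Submodule.mem_span_range_iff_exists_fun R).1 (hy ▸ Submodule.mem_top : b ∈ _)
    refine (Submodule.mem_span_range_iff_exists_fun R).2 ⟨Fin.append c d, ?_⟩
    simp [Fin.sum_univ_add, z, Prod.ext_iff, Prod.fst_sum, Prod.snd_sum]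
  have hrel : ∀ v : Fin (n + m) → R, v ∈ rels (R := R) z ↔
      (fun i => v (Fin.castAdd m i)) ∈ rels (R := R) x ∧ (fun j => v (Fin.natAdd n j)) ∈ rels (R := R) y := by
    intro v
    simp [mem_rels, Fin.sum_univ_add, z, Prod.ext_iff, Prod.fst_sum, Prod.snd_sum]
  rw [ideal_eq_fitOf z hz]
  apply le_antisymm
  · -- split every relation into the two pure parts
    let SL : Set (Fin (n + m) → R) := {v | v ∈ rels (R := R) z ∧ ∀ j, v (Fin.natAdd n j) = 0}
    let SR : Set (Fin (n + m) → R) := {v | v ∈ rels (R := R) z ∧ ∀ i, v (Fin.castAdd m i) = 0}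
    have hspan : Submodule.span R (SL ∪ SR) = rels (R := R) z := by
      refine le_antisymm (Submodule.span_le.2 (by rintro v (⟨h, -⟩ | ⟨h, -⟩) <;> exact h)) fun v hv => ?_
      rw [hrel] at hv
      have hvv : v = Fin.append (fun i => v (Fin.castAdd m i)) (fun _ => 0) +
          Fin.append (fun _ => 0) (fun j => v (Fin.natAdd n j)) := by
        ext i; refine Fin.addCases (fun i => ?_) (fun i => ?_) i <;> simp
      rw [hvv]
      refine add_mem (Submodule.subset_span (Or.inl ⟨(hrel _).2 ⟨?_, ?_⟩, by simp⟩))
        (Submodule.subset_span (Or.inr ⟨(hrel _).2 ⟨?_, ?_⟩, by simp⟩))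
      · simpa using hv.1
      · simp only [Fin.append_right]; exact Submodule.zero_mem _
      · simp only [Fin.append_left]; exact Submodule.zero_mem _
      · simpa using hv.2
    rw [fitOf, ← hspan, minors_span, ← initDets_eq_minors _ (Nat.sub_le _ _)]
    refine Ideal.span_le.2 ?_
    rintro d ⟨a, ha, rfl⟩
    -- free rows become unit vectors
    let U : Set (Fin (n + m) → R) := Set.range (fun c => (Pi.single c (1 : R) : Fin (n+m) → R))
    let D := fun b : Matrix (Fin (n+m)) (Fin (n+m)) R => b.det
    suffices H : ∀ (T : Finset (Fin (n + m))) (b : Matrix (Fin (n + m)) (Fin (n + m)) R),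
        (∀ i : Fin (n + m), (i : ℕ) < n + m - l → b i ∈ SL ∪ SR) →
        (∀ i : Fin (n + m), n + m - l ≤ (i : ℕ) → i ∉ T → b i ∈ U) →
        b.det ∈ ∑ k ∈ Finset.range (l + 1), Fitt.ideal R M k * Fitt.ideal R M' (l - k) from
      H Finset.univ a ha (fun i _ h => absurd (Finset.mem_univ i) h)
    intro T
    induction T using Finset.induction_on with
    | empty =>
      intro b hb1 hb2
      let L : Finset (Fin (n + m)) := Finset.univ.filter fun i => ∀ j, b i (Fin.natAdd n j) = 0
      have hR : ∀ i ∉ L, ∀ j, b i (Fin.castAdd m j) = 0 := by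
        intro i hi j
        simp only [L, Finset.mem_filter, Finset.mem_univ, true_and] at hi
        by_cases h : (i : ℕ) < n + m - l
        · rcases hb1 i h with h' | h'
          · exact absurd h'.2 hi
          · exact h'.2 j
        · obtain ⟨c, hc⟩ := hb2 i (by omega) (Finset.notMem_empty i)
          rw [← hc] at hi ⊢
          beta_reduce at hi ⊢
          push Not at hi
          obtain ⟨j', hj'⟩ := hi
          rw [Pi.single_apply] at hj' ⊢
          rw [if_neg]
          intro e
          apply hj'
          rw [if_neg]
          intro e'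
          have := e.trans e'.symm
          simp [Fin.ext_iff] at this
          omega
      have hL : ∀ i ∈ L, ∀ j, b i (Fin.natAdd n j) = 0 := fun i hi j => by
        simp only [L, Finset.mem_filter] at hi; exact hi.2 j
      by_cases hcard : L.card = n
      · let f : Fin n ≃ L := (L.equivFinOfCardEq hcard).symm
        have hcompl : (Lᶜ : Finset _).card = m := by simp [Finset.card_compl, hcard]
        let g : Fin m ≃ (Lᶜ : Finset _) := ((Lᶜ : Finset _).equivFinOfCardEq hcompl).symm
        let h : Fin n ⊕ Fin m → Fin (n + m) := Sum.elim (fun i => (f i : Fin (n+m))) (fun j => (g j : Fin (n+m)))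
        have hh : Function.Bijective h := by
          refine (Fintype.bijective_iff_injective_and_card h).2 ⟨?_, by simp⟩
          refine Function.Injective.sumElim (Subtype.val_injective.comp f.injective)
            (Subtype.val_injective.comp g.injective) fun p q hpq => ?_
          have := (g q).2
          rw [Finset.mem_compl] at this
          exact this (hpq ▸ (f p).2)
        let e := Equiv.ofBijective h hh
        rw [← det_submatrix_equiv_mem b e finSumFinEquiv]
        have key : b.submatrix e finSumFinEquiv = fromBlocks (of fun i j => b (f i) (Fin.castAdd m j)) 0 0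
            (of fun i j => b (g i) (Fin.natAdd n j)) := by
          ext i j
          rcases i with i | i <;> rcases j with j | j
          · simp [e, h]
          · simp [e, h, hL _ (f i).2]
          · have := (g i).2
            rw [Finset.mem_compl] at this
            simp [e, h, hR _ this]
          · simp [e, h]
        rw [key, det_fromBlocks_zero₂₁]
        let s₁ := Finset.univ.filter fun i : Fin n => ((f i : Fin (n+m)) : ℕ) < n + m - l
        let s₂ := Finset.univ.filter fun i : Fin m => ((g i : Fin (n+m)) : ℕ) < n + m - l
        have hs : n + m ≤ s₁.card + s₂.card + l := by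
          have h1 : (Finset.univ.filter fun i : Fin (n+m) => (i : ℕ) < n + m - l).card = n + m - l := by
            rw [Fin.card_filter_val_lt]; omega
          have h2 : (Finset.univ.filter fun i : Fin (n+m) => (i : ℕ) < n + m - l).card =
              s₁.card + s₂.card := by
            rw [← Finset.card_disjSum s₁ s₂]
            exact (Finset.card_bij (fun x _ => e x) (fun x hx => by
              rcases x with x | x <;> simp [s₁, s₂, e, h] at hx ⊢ <;> exact hx)
              (fun x _ y _ hxy => e.injective hxy) (fun y hy => ⟨e.symm y, by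
                obtain ⟨x, rfl⟩ := e.surjective y
                rw [e.symm_apply_apply]
                rcases x with x | x <;> simp [s₁, s₂, e, h] at hy ⊢ <;> exact hy, e.apply_symm_apply y⟩)).symm
          omega
        have hc1 : s₁.card ≤ n := (Finset.card_le_univ _).trans (by simp)
        have hc2 : s₂.card ≤ m := (Finset.card_le_univ _).trans (by simp)
        have hmemz : ∀ i : Fin (n + m), (i : ℕ) < n + m - l → b i ∈ rels (R := R) z := fun i hi => by
          rcases hb1 i hi with h | h <;> exact h.1
        have m1 : (of fun i j => b (f i) (Fin.castAdd m j)).det ∈ Fitt.ideal R M (n - s₁.card) := by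
          rw [ideal_eq_fitOf x hx]
          exact det_mem_fitOf x _ _ s₁ (by omega) fun i hi =>
            ((hrel _).1 (hmemz _ (Finset.mem_filter.1 hi).2)).1
        have m2 : (of fun i j => b (g i) (Fin.natAdd n j)).det ∈ Fitt.ideal R M' (l - (n - s₁.card)) := by
          rw [ideal_eq_fitOf y hy]
          exact det_mem_fitOf y _ _ s₂ (by omega) fun i hi =>
            ((hrel _).1 (hmemz _ (Finset.mem_filter.1 hi).2)).2
        rcases le_or_gt (n - s₁.card) l with hk | hk
        · exact Finset.single_le_sum (f := fun k => Fitt.ideal R M k * Fitt.ideal R M' (l - k))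
            (fun _ _ => bot_le) (Finset.mem_range.2 (Nat.lt_succ_of_le hk)) (Ideal.mul_mem_mul m1 m2)
        · omega
      · rw [det_pure finSumFinEquiv b L (fun i hi j => by simpa using hL i hi j)
          (fun i hi j => by simpa using hR i hi j) hcard]
        exact Submodule.zero_mem _
    | @insert c T hc ih =>
      intro b hb1 hb2
      by_cases hlt : (c : ℕ) < n + m - l
      · exact ih b hb1 fun i hi hiT => hb2 i hi (by simp [hiT]; rintro rfl; omega)
      · have hexp : b.det = ∑ j, b c j * (b.updateRow c (Pi.single j 1)).det := by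
          have h1 : b = b.updateRow c (∑ j, b c j • (Pi.single j (1 : R) : Fin (n+m) → R)) := by
            rw [← pi_eq_sum_univ' (b c), updateRow_eq_self]
          conv_lhs => rw [h1]
          exact MultilinearMap.map_update_sum (Matrix.detRowAlternating (n := Fin (n+m)) (R := R)).toMultilinearMap
            Finset.univ c (fun j => b c j • Pi.single j 1) b |>.trans (Finset.sum_congr rfl fun j _ => by
              exact det_updateRow_smul _ _ _ _)
        rw [hexp]
        refine sum_mem fun j _ => Ideal.mul_mem_left _ _ (ih _ (fun i hi => ?_) fun i hi hiT => ?_)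
        · rw [updateRow_ne (by rintro rfl; omega)]
          exact hb1 i hi
        · rcases eq_or_ne i c with rfl | hne
          · exact ⟨j, (updateRow_self).symm⟩
          · rw [updateRow_ne hne]
            exact hb2 i hi (by simp [hne, hiT])
  · rw [Ideal.sum_eq_sup, Finset.sup_le_iff]
    intro k hk
    rw [ideal_eq_fitOf x hx, ideal_eq_fitOf y hy, fitOf_eq_dets x, fitOf_eq_dets y, dets, dets,
      Ideal.span_mul_span', Ideal.span_le]
    rintro _ ⟨_, ⟨a, s, hs, ha, rfl⟩, _, ⟨b, t, ht, hb, rfl⟩, rfl⟩
    change a.det * b.det ∈ _
    let c : Matrix (Fin (n + m)) (Fin (n + m)) R :=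
      (fromBlocks a 0 0 b).submatrix finSumFinEquiv.symm finSumFinEquiv.symm
    have hc : c.det = a.det * b.det := by
      simp [c, det_submatrix_equiv_self]
    rw [← hc]
    refine det_mem_fitOf z l c ((s.disjSum t).map finSumFinEquiv.toEmbedding) ?_ ?_
    · rw [Finset.card_map, Finset.card_disjSum]
      have := Finset.mem_range.1 hk
      omega
    · intro i hi
      obtain ⟨i, hi', rfl⟩ := Finset.mem_map.1 hi
      rw [hrel]
      rcases i with i | i
      · rw [Finset.inl_mem_disjSum] at hi'
        constructor
        · have : a i ∈ rels (R := R) x := ha i hi'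
          convert this using 2; simp [c]
        · convert Submodule.zero_mem _ using 1; funext j; simp [c]
      · rw [Finset.inr_mem_disjSum] at hi'
        constructor
        · convert Submodule.zero_mem _ using 1; funext j; simp [c]
        · have : b i ∈ rels (R := R) y := hb i hi'
          convert this using 2; simp [c]

end Groth.Agent.Fit14
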