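import Mathlib.LinearAlgebra.Matrix.Adjugate
import Mathlib.LinearAlgebra.Dual.Lemmas
import Groth.Agent.Fit14.Local

set_option autoImplicit false

open Matrix

namespace Groth.Agent.Fit14

universe u v w

variable {R : Type u} [CommRing R] {M : Type v} [AddCommGroup M] [Module R M]
  {N : Type w} [AddCommGroup N] [Module R N]

/-- The combination of `z` with coefficients a column of the adjugate. -/
lemma adjComb {n p : ℕ} (z : Fin p → (Fin n → R)) (e : Fin p → Fin n) (a : Fin p) (j : Fin n) :
    ∑ b, z b j * (Matrix.of fun a b => z b (e a)).adjugate b a =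
      (Matrix.of fun a' b => z b (Function.update e a j a')).det := by
  have h : (Matrix.of fun a' b => z b (Function.update e a j a')) =
      (Matrix.of fun a b => z b (e a)).updateRow a (fun b => z b j) := by
    ext a' b
    simp only [of_apply, updateRow_apply, Function.update_apply]
    split <;> rfl
  rw [h]
  set A := Matrix.of fun a b => z b (e a)
  have h2 : ((A.updateRow a fun b => z b j) * (A.updateRow a fun b => z b j).adjugate) a a =
      (A.updateRow a fun b => z b j).det := by
    rw [mul_adjugate]; simp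
  rw [← h2, Matrix.mul_apply]
  refine Finset.sum_congr rfl fun b _ => ?_
  rw [updateRow_self]
  congr 1
  rw [adjugate_apply, adjugate_apply, updateRow_idem]

theorem pow_mem_minors_of_quotient {n p : ℕ} (x : Fin n → M) (S : Set (Fin n → R))
    (hS : S ⊆ (rels (R := R) x : Set (Fin n → R))) (s : R) (hs : minors S p ≤ Ideal.span {s})
    (q : M →ₗ[R] N) (hq : ∀ m : M, s • m = 0 → q m = 0)
    (z : Fin p → (Fin n → R)) (hz : ∀ b, z b ∈ S) (e : Fin p → Fin n) (he : Function.Injective e)
    (b : R) (hb : (Matrix.of fun a b => z b (e a)).det = s * b) :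
    b ^ p ∈ minors (rels (R := R) (q ∘ x) : Set (Fin n → R)) p := by
  classical
  have hdiv : ∀ a j, ∃ g, (Matrix.of fun a' b => z b (Function.update e a j a')).det = g * s := by
    intro a j
    obtain ⟨g, hg⟩ := Ideal.mem_span_singleton'.1 (hs (Ideal.subset_span ⟨z, Function.update e a j, hz, rfl⟩))
    exact ⟨g, hg.symm⟩
  choose g hg using hdiv
  let w : Fin p → (Fin n → R) := fun a j =>
    if ∃ a', e a' = j then (if e a = j then b else 0) else g a j
  have hsw : ∀ a, s • w a = ∑ c, (Matrix.of fun a b => z b (e a)).adjugate c a • z c := by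
    intro a
    funext j
    simp only [Pi.smul_apply, smul_eq_mul, Finset.sum_apply]
    rw [Finset.sum_congr rfl fun c _ => mul_comm _ (z c j), adjComb]
    by_cases h : ∃ a', e a' = j
    · obtain ⟨a', rfl⟩ := h
      simp only [w, if_pos (⟨a', rfl⟩ : ∃ a'', e a'' = e a'), he.eq_iff]
      rcases eq_or_ne a a' with rfl | hne
      · rw [if_pos rfl, Function.update_eq_self, hb]
      · rw [if_neg hne, mul_zero, det_zero_of_row_eq hne]
        funext c
        simp [Function.update_of_ne hne.symm]
    · simp only [w, if_neg h]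
      rw [hg, mul_comm]
  have hw : ∀ a, w a ∈ rels (R := R) (q ∘ x) := by
    intro a
    have h1 : s • w a ∈ rels (R := R) x := hsw a ▸ Submodule.sum_mem _ fun c _ =>
      Submodule.smul_mem _ _ (hS (hz c))
    rw [mem_rels] at h1 ⊢
    have := hq (∑ j, w a j • x j) (by rw [Finset.smul_sum, ← h1]; simp [mul_smul])
    simpa using this
  have : (Matrix.of fun a c => w c (e a)) = Matrix.diagonal fun _ => b := by
    ext a c
    simp only [of_apply, w, if_pos (⟨a, rfl⟩ : ∃ a', e a' = e a), diagonal_apply, he.eq_iff]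
    simp [eq_comm]
  refine Ideal.subset_span ⟨w, e, hw, ?_⟩
  rw [this, det_diagonal]
  simp

/-- A multiplier fixing `s` in the radical of the Fitting ideal of a quotient killing `s`-torsion. -/
theorem exists_mem_radical_of_minors_eq {n p : ℕ} (x : Fin n → M) (S : Set (Fin n → R))
    (hS : S ⊆ (rels (R := R) x : Set (Fin n → R))) (s : R) (hs : minors S p = Ideal.span {s})
    (q : M →ₗ[R] N) (hq : ∀ m : M, s • m = 0 → q m = 0) :
    ∃ c ∈ (minors (rels (R := R) (q ∘ x) : Set (Fin n → R)) p).radical, s = s * c := by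
  classical
  let J := Ideal.span {b | ∃ (z : Fin p → (Fin n → R)) (e : Fin p → Fin n),
    (∀ a, z a ∈ S) ∧ Function.Injective e ∧ (Matrix.of fun a b => z b (e a)).det = s * b}
  have h1 : minors S p ≤ (Ideal.span {s}) * J := by
    refine Ideal.span_le.2 ?_
    rintro d ⟨z, e, hz, rfl⟩
    by_cases he : Function.Injective e
    · obtain ⟨b, hb⟩ := Ideal.mem_span_singleton'.1
        (hs.le (Ideal.subset_span ⟨z, e, hz, rfl⟩) : (Matrix.of fun a b => z b (e a)).det ∈ _)
      rw [SetLike.mem_coe, ← hb, mul_comm b]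
      exact Ideal.mul_mem_mul (Ideal.mem_span_singleton_self s)
        (Ideal.subset_span ⟨z, e, hz, he, by rw [← hb, mul_comm]⟩)
    · obtain ⟨i, j, hij, hne⟩ := Function.not_injective_iff.1 he
      rw [SetLike.mem_coe, det_zero_of_row_eq hne (funext fun b => by simp [hij])]
      exact Submodule.zero_mem _
  obtain ⟨c, hc, hc'⟩ := Ideal.mem_span_singleton_mul.1 (h1 (hs.ge (Ideal.mem_span_singleton_self s)))
  refine ⟨c, Ideal.span_le.2 ?_ hc, hc'.symm⟩
  rintro b ⟨z, e, hz, he, hb⟩
  exact ⟨p, pow_mem_minors_of_quotient x S hS s hs.le q hq z hz e he b hb⟩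

theorem ideal_eq_top_of_quotient_local [IsLocalRing R] {n : ℕ} (x : Fin n → M)
    (hx : Submodule.span R (Set.range x) = ⊤) (k : ℕ) (s : R) (hs0 : s ≠ 0)
    (hs : Fitt.ideal R M k = Ideal.span {s}) (q : M →ₗ[R] N) (hqs : Function.Surjective q)
    (hq : ∀ m : M, s • m = 0 → q m = 0) : Fitt.ideal R N k = ⊤ := by
  have hqx : Submodule.span R (Set.range (q ∘ x)) = ⊤ := by
    rw [Set.range_comp, ← Submodule.map_span, hx, Submodule.map_top, LinearMap.range_eq_top.2 hqs]
  rw [ideal_eq_fitOf x hx, fitOf] at hs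
  obtain ⟨c, hc, hsc⟩ := exists_mem_radical_of_minors_eq x _ subset_rfl s hs q hq
  rw [ideal_eq_fitOf _ hqx, fitOf]
  rcases IsLocalRing.isUnit_or_isUnit_one_sub_self c with hu | hu
  · exact Ideal.radical_eq_top.1 (Ideal.eq_top_of_isUnit_mem _ hc hu)
  · refine absurd (hu.mul_left_eq_zero.1 ?_) hs0
    rw [mul_sub, mul_one, ← hsc, sub_self]

theorem ideal_eq_top_of_quotient_of_regular {n : ℕ} (x : Fin n → M) (hx : Submodule.span R (Set.range x) = ⊤)
    (k : ℕ) (S : Set (Fin n → R)) (hS : S ⊆ (rels (R := R) x : Set (Fin n → R))) (s : R)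
    (hs0 : s ∈ nonZeroDivisors R) (hs : minors S (n - k) = Ideal.span {s}) (q : M →ₗ[R] N)
    (hqs : Function.Surjective q) (hq : ∀ m : M, s • m = 0 → q m = 0) : Fitt.ideal R N k = ⊤ := by
  have hqx : Submodule.span R (Set.range (q ∘ x)) = ⊤ := by
    rw [Set.range_comp, ← Submodule.map_span, hx, Submodule.map_top, LinearMap.range_eq_top.2 hqs]
  obtain ⟨c, hc, hsc⟩ := exists_mem_radical_of_minors_eq x S hS s hs q hq
  have hc1 : c = 1 := mem_nonZeroDivisors_iff_left.1 hs0 (c - 1) (by rw [mul_sub, mul_one, ← hsc, sub_self])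
    |> sub_eq_zero.1
  rw [ideal_eq_fitOf _ hqx, fitOf]
  exact Ideal.radical_eq_top.1 (Ideal.eq_top_of_isUnit_mem _ hc (hc1 ▸ isUnit_one))

/-- Vanishing of a Fitting ideal of a quotient by torsion. -/
theorem ideal_eq_bot_of_torsion [Module.Finite R M] (k : ℕ) (s : R) (hs0 : s ∈ nonZeroDivisors R)
    (q : M →ₗ[R] N) (hqs : Function.Surjective q) (hq : ∀ m : M, q m = 0 → ∃ i : ℕ, s ^ i • m = 0)
    (h0 : Fitt.ideal R M k = ⊥) : Fitt.ideal R N k = ⊥ := by
  obtain ⟨n, x, hx⟩ := exists_gens R M
  have hqx : Submodule.span R (Set.range (q ∘ x)) = ⊤ := by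
    rw [Set.range_comp, ← Submodule.map_span, hx, Submodule.map_top, LinearMap.range_eq_top.2 hqs]
  rw [ideal_eq_fitOf _ hqx, fitOf, minors, Ideal.span_eq_bot]
  rintro d ⟨z, e, hz, rfl⟩
  have : ∀ b, ∃ i : ℕ, s ^ i • z b ∈ rels (R := R) x := by
    intro b
    obtain ⟨i, hi⟩ := hq (∑ j, z b j • x j) (by simpa [mem_rels] using hz b)
    refine ⟨i, mem_rels.2 ?_⟩
    rw [← hi, Finset.smul_sum]
    simp [mul_smul]
  choose i hi using this
  have hmem : (Matrix.of fun a b => (s ^ i b • z b) (e a)).det ∈ Fitt.ideal R M k := by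
    rw [ideal_eq_fitOf x hx]
    exact Ideal.subset_span ⟨_, e, hi, rfl⟩
  have heq : (Matrix.of fun a b => (s ^ i b • z b) (e a)).det =
      (∏ b, s ^ i b) * (Matrix.of fun a b => z b (e a)).det := det_mul_row _ _
  rw [heq, h0, Ideal.mem_bot] at hmem
  exact mem_nonZeroDivisors_iff_left.1 (prod_mem (fun b _ => pow_mem hs0 _)) _ hmem

lemma le_annihilator_of_span {n : ℕ} (x : Fin n → M) (s : R) (h : ∀ j, s • x j = 0)
    (hx : Submodule.span R (Set.range x) = ⊤) (m : M) : s • m = 0 := by
  have hm : m ∈ Submodule.span R (Set.range x) := hx ▸ trivial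
  induction hm using Submodule.span_induction with
  | mem v hv => obtain ⟨j, rfl⟩ := hv; exact h j
  | zero => simp
  | add a b _ _ ha hb => rw [smul_add, ha, hb, add_zero]
  | smul r v _ hv => rw [smul_comm, hv, smul_zero]

/-- If `Fit_0` is invertible, the module of relations is projective. -/
theorem projective_rels {n : ℕ} (x : Fin n → M) (hx : Submodule.span R (Set.range x) = ⊤) (s : R)
    (hs0 : s ∈ nonZeroDivisors R) (hs : Fitt.ideal R M 0 = Ideal.span {s}) :
    Module.Projective R (rels (R := R) x) := by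
  classical
  rw [ideal_eq_fitOf x hx, fitOf_eq_dets, dets] at hs
  let G := {d | ∃ (a : Matrix (Fin n) (Fin n) R) (t : Finset (Fin n)),
    n - 0 ≤ t.card ∧ (∀ i ∈ t, a i ∈ (rels (R := R) x : Set (Fin n → R))) ∧ d = a.det}
  have hmem : s ∈ Ideal.span G := hs.ge (Ideal.mem_span_singleton_self s)
  obtain ⟨c, T, hT, -, hc⟩ := (Submodule.mem_span_iff_exists_finset_subset).1 hmem
  choose a t hta hat had using fun d : T => hT d.2
  have hall : ∀ (d : T) i, a d i ∈ rels (R := R) x := fun d i => hat d i (by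
    have := Finset.eq_univ_of_card (t d) (by
      have h1 := Finset.card_le_univ (t d)
      have h2 := hta d
      simp at h1 h2 ⊢
      omega)
    simp [this])
  -- replacing a row by a relation keeps the determinant in `(s)`
  have hdiv : ∀ (d : T) (i : Fin n) (w : rels (R := R) x), ∃ g, g * s = ((a d).updateRow i w).det := by
    intro d i w
    refine Ideal.mem_span_singleton'.1 (hs.le (Ideal.subset_span ⟨_, Finset.univ, by simp, fun j _ => ?_, rfl⟩))
    rcases eq_or_ne j i with rfl | hne
    · rw [updateRow_self]; exact w.2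
    · rw [updateRow_ne hne]; exact hall d j
  choose g hg using hdiv
  have hcancel : ∀ u v : R, u * s = v * s → u = v := fun u v huv => by
    refine sub_eq_zero.1 (mem_nonZeroDivisors_iff_right.1 hs0 _ ?_)
    rw [sub_mul, huv, sub_self]
  let G1 : ↥(rels (R := R) x) →ₗ[R] (T × Fin n → R) :=
    { toFun := fun w di => c di.1 * g di.1 di.2 w
      map_add' := fun v w => by
        funext di
        refine hcancel _ _ ?_
        simp only [Pi.add_apply, add_mul, mul_assoc, hg, Submodule.coe_add]
        rw [det_updateRow_add, mul_add]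
      map_smul' := fun r w => by
        funext di
        refine hcancel _ _ ?_
        simp only [RingHom.id_apply, Pi.smul_apply, smul_eq_mul, mul_assoc, hg, Submodule.coe_smul]
        rw [det_updateRow_smul]; ring }
  let P1 : (T × Fin n → R) →ₗ[R] ↥(rels (R := R) x) :=
    Fintype.linearCombination R fun di => (⟨a di.1 di.2, hall _ _⟩ : ↥(rels (R := R) x))
  refine Module.Projective.of_split G1 P1 (LinearMap.ext fun w => Subtype.ext ?_)
  change ((P1 (G1 w) : ↥(rels (R := R) x)) : Fin n → R) = (w : Fin n → R)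
  funext k
  refine hcancel _ _ ?_
  have h1 : ((P1 (G1 w) : ↥(rels (R := R) x)) : Fin n → R) k * s =
      ∑ d : T, c d * ∑ i, ((a d).updateRow i (w : Fin n → R)).det * a d i k := by
    simp only [P1, G1, Fintype.linearCombination_apply, LinearMap.coe_mk, AddHom.coe_mk, Submodule.coe_sum,
      Submodule.coe_smul, Finset.sum_apply, Pi.smul_apply, smul_eq_mul, Fintype.sum_prod_type, Finset.sum_mul]
    refine Finset.sum_congr rfl fun d _ => ?_
    rw [Finset.mul_sum]
    refine Finset.sum_congr rfl fun i _ => ?_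
    rw [← hg]; ring
  rw [h1]
  have h2 : ∀ d : T, ∑ i, ((a d).updateRow i (w : Fin n → R)).det * a d i k = (w : Fin n → R) k * (d : R) := by
    intro d
    have h3 : ∀ i, ((a d).updateRow i (w : Fin n → R)).det = (cramer (a d)ᵀ (w : Fin n → R)) i := fun i => by
      rw [cramer_transpose_apply]
    simp only [h3, cramer_eq_adjugate_mulVec]
    have h4 := congrFun (congrArg (fun A => A *ᵥ (w : Fin n → R)) (mul_adjugate (a d)ᵀ)) k
    simp only [← mulVec_mulVec] at h4
    rw [det_transpose, smul_mulVec, one_mulVec] at h4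
    rw [show ((d : T) : R) = (a d).det from had d]
    simp only [mulVec, dotProduct, transpose_apply, Pi.smul_apply, smul_eq_mul] at h4 ⊢
    rw [mul_comm, ← h4]
    exact Finset.sum_congr rfl fun i _ => mul_comm _ _
  simp only [h2]
  rw [← hc, ← Finset.sum_coe_sort T, Finset.mul_sum]
  refine Finset.sum_congr rfl fun d _ => ?_
  rw [smul_eq_mul]
  ring

end Groth.Agent.Fit14
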