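import Mathlib.Algebra.Category.ModuleCat.Projective
import Mathlib.Algebra.Homology.ShortComplex.ModuleCat
import Mathlib.CategoryTheory.Abelian.Projective.Dimension
import Mathlib.Algebra.Category.ModuleCat.Biproducts
import Mathlib.LinearAlgebra.Projection
import Groth.Agent.Fit14.Prod
import Groth.Agent.Fit14.Tors

set_option autoImplicit false

open Matrix CategoryTheory

namespace Groth.Agent.Fit14

universe u v

variable {R : Type u} [CommRing R] {M : Type v} [AddCommGroup M] [Module R M]

/-- A module with trivial Fitting ideals below and unit ideal at `k` is projective. -/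
theorem projective_of_fitting {n : ℕ} (x : Fin n → M) (hx : Submodule.span R (Set.range x) = ⊤) (k : ℕ)
    (h0 : ∀ j, j < k → Fitt.ideal R M j = ⊥) (h1 : Fitt.ideal R M k = ⊤) :
    Module.Projective R M := by
  classical
  rw [ideal_eq_fitOf x hx, fitOf, minors] at h1
  set G := {d | ∃ (z : Fin (n - k) → (Fin n → R)) (e : Fin (n - k) → Fin n),
    (∀ b, z b ∈ (rels (R := R) x : Set (Fin n → R))) ∧ d = (Matrix.of fun a b => z b (e a)).det}
  have hone : (1 : R) ∈ (Ideal.span ((fun d => d * d) '' G)) := by
    have hr : (Ideal.span ((fun d => d * d) '' G)).radical = ⊤ := by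
      rw [eq_top_iff, ← h1, Ideal.span_le]
      intro d hd
      exact ⟨2, by rw [pow_two]; exact Ideal.subset_span ⟨d, hd, rfl⟩⟩
    rw [Ideal.radical_eq_top.1 hr]; trivial
  obtain ⟨c, T, hT, -, hc⟩ := (Submodule.mem_span_iff_exists_finset_subset).1 hone
  choose d hdG hd2 using fun t : T => hT t.2
  choose z e hz hde using hdG
  let A := fun t : T => Matrix.of fun a b => z t b (e t a)
  have hcr : ∀ (t : T) (w : Fin n → R), w ∈ rels (R := R) x →
      d t • (d t • w - ∑ b, cramer (A t) (fun a => w (e t a)) b • z t b) = 0 := by
    intro t w hw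
    set u := d t • w - ∑ b, cramer (A t) (fun a => w (e t a)) b • z t b
    have hu : u ∈ rels (R := R) x := Submodule.sub_mem _ (Submodule.smul_mem _ _ hw)
      (Submodule.sum_mem _ fun b _ => Submodule.smul_mem _ _ (hz t b))
    have hue : ∀ a, u (e t a) = 0 := by
      intro a
      have := congrFun (mulVec_cramer (A t) (fun a => w (e t a))) a
      simp only [mulVec, dotProduct, A, of_apply, Pi.smul_apply, smul_eq_mul] at this
      simp only [u, Pi.sub_apply, Pi.smul_apply, Finset.sum_apply, smul_eq_mul]
      rw [hde t, ← this, sub_eq_zero]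
      exact Finset.sum_congr rfl fun b _ => mul_comm _ _
    funext j
    rcases Nat.eq_zero_or_pos k with hk | hk
    · -- every column is one of the chosen ones
      subst hk
      rcases eq_or_ne (d t) 0 with h | h
      · simp [h]
      have hinj : Function.Injective (e t) := by
        intro p q hpq
        by_contra hne
        exact h ((hde t).trans (det_zero_of_row_eq hne (funext fun b => by simp [hpq])))
      obtain ⟨a, rfl⟩ := ((Fintype.bijective_iff_injective_and_card (e t)).2 ⟨hinj, by simp⟩).2 j
      simp [hue]
    have hbot := h0 (k - 1) (by omega)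
    rw [ideal_eq_fitOf x hx, fitOf] at hbot
    by_cases hkn : n < k
    · -- no chosen columns at all
      have : n - (k - 1) = n - k := by omega
      rw [this] at hbot
      have h2 : d t ∈ minors (rels (R := R) x : Set (Fin n → R)) (n - k) :=
        Ideal.subset_span ⟨z t, e t, hz t, hde t⟩
      rw [hbot, Ideal.mem_bot] at h2
      simp [h2]
    have hp : n - (k - 1) = n - k + 1 := by omega
    rw [hp] at hbot
    have hmem : (Matrix.of fun a b => (Fin.snoc (z t) u : Fin (n - k + 1) → (Fin n → R)) b
        ((Fin.snoc (e t) j : Fin (n - k + 1) → Fin n) a)).det = 0 := by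
      rw [← Ideal.mem_bot, ← hbot]
      refine Ideal.subset_span ⟨_, _, fun b => ?_, rfl⟩
      refine Fin.lastCases ?_ (fun b => ?_) b <;> simp [hu, hz]
    rw [det_succ_column _ (Fin.last _), Fin.sum_univ_castSucc] at hmem
    have hsub : (Matrix.of fun a b => (Fin.snoc (z t) u : Fin (n - k + 1) → (Fin n → R)) b
        ((Fin.snoc (e t) j : Fin (n - k + 1) → Fin n) a)).submatrix Fin.castSucc Fin.castSucc = A t := by
      ext a b; simp [A]
    simp [hue, hsub] at hmem
    rw [Pi.smul_apply, smul_eq_mul, Pi.zero_apply, hde t, mul_comm]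
    have hA : (A t).det = (Matrix.of fun a b => z t b (e t a)).det := rfl
    rw [← hA]
    exact hmem
  let ρ : (Fin n → R) →ₗ[R] (Fin n → R) :=
    ∑ t : T, (c t * d t) • ∑ b, ((LinearMap.proj b).comp ((cramer (A t)).comp
      (LinearMap.funLeft R R (e t)))).smulRight (z t b)
  have hρ : ∀ w ∈ rels (R := R) x, ρ w = w := by
    intro w hw
    simp only [ρ, LinearMap.sum_apply, LinearMap.smul_apply, LinearMap.smulRight_apply, LinearMap.comp_apply,
      LinearMap.proj_apply]
    have : ∀ t : T, (c t * d t) • ∑ b, cramer (A t) (LinearMap.funLeft R R (e t) w) b • z t b =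
        (c t * (t : R)) • w := by
      intro t
      have h := hcr t w hw
      rw [smul_sub, sub_eq_zero] at h
      rw [← hd2 t, mul_smul, show LinearMap.funLeft R R (e t) w = fun a => w (e t a) from rfl, ← h,
        smul_smul, smul_smul, mul_assoc]
    rw [Finset.sum_congr rfl fun t _ => this t, ← Finset.sum_smul]
    have hsum : ∑ t : T, c t * (t : R) = 1 := by
      rw [← hc, ← Finset.sum_coe_sort T]; simp
    rw [hsum, one_smul]
  have hρmem : ∀ w, ρ w ∈ rels (R := R) x := by
    intro w
    simp only [ρ, LinearMap.sum_apply, LinearMap.smul_apply, LinearMap.smulRight_apply]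
    exact Submodule.sum_mem _ fun t _ => Submodule.smul_mem _ _
      (Submodule.sum_mem _ fun b _ => Submodule.smul_mem _ _ (hz t b))
  let φ : (Fin n → R) →ₗ[R] M := Fintype.linearCombination R x
  have hφ : Function.Surjective φ := by
    rw [← LinearMap.range_eq_top, Fintype.range_linearCombination, hx]
  choose l hl using hφ
  have hkey : ∀ v w, φ v = φ w → v - ρ v = w - ρ w := by
    intro v w h
    have : v - w ∈ rels (R := R) x := by
      rw [rels, LinearMap.mem_ker, map_sub]; exact sub_eq_zero.2 h
    have h2 := hρ _ this
    rw [map_sub] at h2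
    linear_combination (norm := module) -h2
  refine Module.Projective.of_split
    { toFun := fun m => l m - ρ (l m)
      map_add' := fun a b => by
        rw [hkey (l (a + b)) (l a + l b) (by simp [hl]), map_add]; abel
      map_smul' := fun r a => by
        rw [hkey (l (r • a)) (r • l a) (by simp [hl]), map_smul, RingHom.id_apply, smul_sub] }
    φ (LinearMap.ext fun m => ?_)
  change φ (l m - ρ (l m)) = m
  have : φ (ρ (l m)) = 0 := hρmem (l m)
  rw [map_sub, hl, this, sub_zero]

theorem hasProjectiveDimensionLT_two {R : Type u} [CommRing R] {M : Type u} [AddCommGroup M] [Module R M]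
    {n : ℕ} (x : Fin n → M) (hx : Submodule.span R (Set.range x) = ⊤)
    [Module.Projective R (rels (R := R) x)] : HasProjectiveDimensionLT (ModuleCat.of R M) 2 := by
  have hφ : Function.Surjective (Fintype.linearCombination R x) := by
    rw [← LinearMap.range_eq_top, Fintype.range_linearCombination, hx]
  let S := ShortComplex.moduleCatMk (rels (R := R) x).subtype (Fintype.linearCombination R x)
    (LinearMap.ext fun w => w.2)
  have hS : S.ShortExact :=
    { exact := (ShortComplex.moduleCat_exact_iff_range_eq_ker S).2 (Submodule.range_subtype _)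
      mono_f := (ModuleCat.mono_iff_injective _).2 Subtype.val_injective
      epi_g := (ModuleCat.epi_iff_surjective _).2 hφ }
  have : Projective S.X₁ := (IsProjective.iff_projective _).1 ‹_›
  have : Projective S.X₂ := (IsProjective.iff_projective _).1 inferInstance
  exact hS.hasProjectiveDimensionLT_X₃ 1 inferInstance inferInstance

end Groth.Agent.Fit14
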